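import Cfsg.Agent.Lib.Transfer.UnitaryFour.Local

/-!
# A Sylow 2-subgroup of `PSU(3, 4)` type and the inverted part of the core of an involution centraliser

The data for Lyons' character argument: the centraliser of the central involution `z` is `K (S ⟨x⟩)` with `K` odd,
`x` of 5-power order with `x ^ 5 ∈ K`, and `M ≤ K` is an abelian subgroup, normalised by `S ⟨x⟩`, inverted by a central involution on which `x` has no
fixed point.  The goal of this folder is `M = ⊥` in a simple group.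
-/

set_option autoImplicit false

namespace Cfsg.Agent.Transfer.UnitaryCore

open Subgroup UnitaryFour

universe u

/-- The data. -/
structure Data {G : Type u} [Group G] (S : Sylow 2 G) (z x : G) (K M : Subgroup G) : Prop where
  shape : Shape ↥(S : Subgroup G)
  hz : z ∈ cen S
  hz1 : z ≠ 1
  fused : ∀ v ∈ cen S, v ≠ 1 → ∃ n ∈ normalizer ((S : Subgroup G) : Set G), n * z * n⁻¹ = v
  hx : x ∈ normalizer ((S : Subgroup G) : Set G)
  ox : ∃ k : ℕ, orderOf x = 5 ^ k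
  x5 : x ^ 5 ∈ K
  xcen : ∀ v ∈ cen S, x * v = v * x
  fpf : ∀ w ∈ (S : Subgroup G), x * w * x⁻¹ * w⁻¹ ∈ cen S → w ∈ cen S
  K_le : K ≤ centralizer ({z} : Set G)
  K_odd : Odd (Nat.card K)
  K_norm : ∀ c ∈ centralizer ({z} : Set G), ∀ k ∈ K, c * k * c⁻¹ ∈ K
  cover : ∀ c ∈ centralizer ({z} : Set G), ∃ k ∈ K, ∃ t ∈ (S : Subgroup G) ⊔ zpowers x, c = k * t
  M_le : M ≤ K
  M_comm : ∀ y ∈ M, ∀ y' ∈ M, y * y' = y' * y
  M_norm : ∀ c ∈ (S : Subgroup G) ⊔ zpowers x, ∀ y ∈ M, c * y * c⁻¹ ∈ M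
  inverted : ∃ a ∈ cen S, ∀ y ∈ M, a * y * a⁻¹ = y⁻¹
  x_free : ∀ y ∈ M, x * y = y * x → y = 1

end Cfsg.Agent.Transfer.UnitaryCore
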