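import Cfsg.Agent.Lib.Transfer.UnitaryCore.Data
import Cfsg.Agent.Lib.Transfer.UnitaryFour.Orbits
import Cfsg.Agent.Lib.Char.Constituent
import Cfsg.Agent.Lib.Invol.Sylow

/-!
# A lower bound for the degrees that see the inverted part of the core

If a character is constant on `z M` and on `e C_M(e)` for the roots `e` of `z` in `S`, then a nontrivial linear
character of `M` in its restriction occurs with multiplicity divisible by two, by four if a root fixes it, and has at
least 160, resp. 80, conjugates under `S ⟨x⟩`. So the degree is at least 320.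
-/

set_option autoImplicit false
set_option linter.unusedSectionVars false
set_option linter.style.haveILetI false

open scoped ComplexConjugate Pointwise

namespace Cfsg.Agent.Transfer.UnitaryCore

open Cfsg Subgroup UnitaryFour

universe u

variable {G : Type u} [Group G] [Finite G]

/-- An invariant linear character of `M` whose twisted sums over the other cosets vanish occurs with multiplicity
divisible by the order of the outer element. -/
theorem dvd_mult {χ : G → ℂ} (hχ : IsCharacter G χ) {M : Subgroup G} [Fintype ↥M] {e : G}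
    (he : e ∈ normalizer (M : Set G)) (l : ↥M →* ℂˣ)
    (hl : ∀ y : ↥M, l ⟨e * y * e⁻¹, (mem_normalizer_iff.1 he y).1 y.2⟩ = l y)
    (hzero : ∀ g ∈ zpowers e, g ≠ 1 → ∑ y : ↥M, χ (y * g) * conj (l y : ℂ) = 0) :
    ∃ k : ℕ, classInner (fun y : ↥M => χ y) (fun y => (l y : ℂ)) = ((orderOf e * k : ℕ) : ℂ) := by
  classical
  have hle : zpowers e ≤ normalizer (M : Set G) := zpowers_le.2 he
  let φ : ↥(zpowers e) →* MulAut ↥M := M.normalizerMonoidHom.comp (Subgroup.inclusion hle)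
  have hφ : ∀ (g : ↥(zpowers e)) (y : ↥M), ((φ g y : ↥M) : G) = g * y * (g : G)⁻¹ := fun _ _ => rfl
  have hinv : ∀ (g : ↥(zpowers e)) (y : ↥M), l (φ g y) = l y := by
    rintro ⟨g, hg⟩ y
    obtain ⟨n, rfl⟩ := (isOfFinOrder_of_finite e).mem_powers_iff_mem_zpowers.2 hg
    induction n generalizing y with
    | zero => exact congrArg l (Subtype.ext (by rw [hφ]; simp))
    | succ n ih =>
      have e1 : φ ⟨e ^ (n + 1), hg⟩ y = φ ⟨e, mem_zpowers e⟩ (φ ⟨e ^ n, npow_mem_zpowers e n⟩ y) :=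
        Subtype.ext (by
          rw [hφ, hφ, hφ]
          show e ^ (n + 1) * (y : G) * (e ^ (n + 1))⁻¹ = e * (e ^ n * y * (e ^ n)⁻¹) * e⁻¹
          rw [pow_succ']
          group)
      rw [e1]
      exact (hl _).trans (ih _ _)
  let B := ↥M ⋊[φ] ↥(zpowers e)
  let f : B →* G := SemidirectProduct.lift M.subtype (zpowers e).subtype fun g => MonoidHom.ext fun y => hφ g y
  let lB : B →* ℂˣ := SemidirectProduct.lift l 1 fun g => MonoidHom.ext fun y => by
    show l (φ g y) = 1 * l y * 1⁻¹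
    rw [hinv, one_mul, inv_one, mul_one]
  haveI : Fintype ↥(zpowers e) := Fintype.ofFinite _
  haveI : Fintype B := Fintype.ofEquiv _ SemidirectProduct.equivProd.symm
  obtain ⟨k, hk⟩ := Char.IsChar.classInner_nat (Char.IsChar.comp f hχ)
    (Char.IsIrr.isCharacter (Char.isIrr_linear lB))
  refine ⟨k, ?_⟩
  have hsum : ∑ b : B, χ (f b) * conj (lB b : ℂ) = ∑ y : ↥M, χ y * conj (l y : ℂ) := by
    have hf : ∀ p : ↥M × ↥(zpowers e),
        χ (f (SemidirectProduct.equivProd.symm p)) * conj (lB (SemidirectProduct.equivProd.symm p) : ℂ) =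
          χ (p.1 * p.2) * conj (l p.1 : ℂ) := by
      rintro ⟨y, g⟩
      show χ ((y : G) * g) * conj (((l y * 1 : ℂˣ)) : ℂ) = _
      rw [mul_one]
    rw [← Equiv.sum_comp SemidirectProduct.equivProd.symm, Finset.sum_congr rfl fun p _ => hf p,
      Fintype.sum_prod_type, Finset.sum_comm, Fintype.sum_eq_single (1 : ↥(zpowers e)) fun g hg =>
        hzero g g.2 fun e1 => hg (Subtype.ext e1)]
    exact Finset.sum_congr rfl fun y _ => by rw [show ((1 : ↥(zpowers e)) : G) = 1 from rfl, mul_one]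
  simp only [classInner] at hk ⊢
  have hcard : (Nat.card B : ℂ) = (Nat.card ↥M : ℂ) * (orderOf e : ℂ) := by
    rw [show Nat.card B = Nat.card ↥M * Nat.card ↥(zpowers e) by
      rw [Nat.card_congr SemidirectProduct.equivProd, Nat.card_prod], Nat.card_zpowers]
    push_cast
    rfl
  rw [hsum, hcard] at hk
  have h1 : (Nat.card ↥M : ℂ) ≠ 0 := Nat.cast_ne_zero.2 Nat.card_pos.ne'
  have h2 : (orderOf e : ℂ) ≠ 0 := Nat.cast_ne_zero.2 (orderOf_pos e).ne'
  push_cast
  rw [← hk]
  field_simp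

theorem sum_linear_eq_zero {M : Subgroup G} [Fintype ↥M] {l : ↥M →* ℂˣ} (hl : l ≠ 1) :
    ∑ y : ↥M, conj (l y : ℂ) = 0 := by
  rw [← map_sum, show ∑ y : ↥M, (l y : ℂ) = 0 from sum_hom_units_eq_zero ((Units.coeHom ℂ).comp l) fun he =>
    hl (MonoidHom.ext fun y => Units.ext (DFunLike.congr_fun he y)), map_zero]

set_option maxHeartbeats 800000 in
/-- The twisted sum over a coset vanishes when the character is constant on the fixed points. -/
theorem coset_sum_eq_zero {χ : G → ℂ} (hχ : IsCharacter G χ) {M : Subgroup G} [Fintype ↥M]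
    (hM : ∀ y ∈ M, ∀ y' ∈ M, y * y' = y' * y) (hodd : Odd (Nat.card ↥M)) {e : G}
    (he : e ∈ normalizer (M : Set G)) (he4 : e ^ 4 = 1) {l : ↥M →* ℂˣ} (hl1 : l ≠ 1)
    (hl : ∀ y : ↥M, l ⟨e * y * e⁻¹, (mem_normalizer_iff.1 he y).1 y.2⟩ = l y)
    (hconst : ∀ y ∈ M, e * y = y * e → χ (e * y) = χ e) :
    ∑ y : ↥M, χ (y * e) * conj (l y : ℂ) = 0 := by
  classical
  let σ : ↥M → ↥M := fun y => ⟨e * y * e⁻¹, (mem_normalizer_iff.1 he y).1 y.2⟩
  have hc : ∀ y y' : ↥M, y * y' = y' * y := fun y y' => Subtype.ext (hM y y.2 y' y'.2)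
  letI : CommGroup ↥M := { (inferInstance : Group ↥M) with mul_comm := hc }
  have hσm : ∀ y y' : ↥M, σ (y * y') = σ y * σ y' := fun y y' => Subtype.ext (by
    show e * ((y : G) * y') * e⁻¹ = e * y * e⁻¹ * (e * y' * e⁻¹)
    group)
  have hσ4 : ∀ y : ↥M, σ (σ (σ (σ y))) = y := fun y => Subtype.ext (by
    show e * (e * (e * (e * (y : G) * e⁻¹) * e⁻¹) * e⁻¹) * e⁻¹ = y
    rw [show e * (e * (e * (e * (y : G) * e⁻¹) * e⁻¹) * e⁻¹) * e⁻¹ = e * e * e * e * y * (e * e * e * e)⁻¹ by group,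
      show e * e * e * e = 1 by rw [← he4]; simp [pow_succ], one_mul, inv_one, mul_one])
  -- every element is a fixed one times a commutator
  have hdec : ∀ y : ↥M, ∃ k w : ↥M, σ k = k ∧ y = k * (w * (σ w)⁻¹) := by
    intro y
    obtain ⟨u, rfl⟩ := (powCoprime (G := ↥M) (n := 4) (by
      show Nat.Coprime (Nat.card ↥M) (2 ^ 2)
      exact Nat.Coprime.pow_right 2 (Nat.coprime_two_right.2 hodd))).surjective y
    show ∃ k w : ↥M, σ k = k ∧ u ^ 4 = k * (w * (σ w)⁻¹)
    refine ⟨u * σ u * σ (σ u) * σ (σ (σ u)), u * (u * σ u) * (u * σ u * σ (σ u)), ?_, ?_⟩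
    · rw [hσm, hσm, hσm, hσ4, mul_comm _ u]
      simp only [mul_assoc]
    · rw [← mul_assoc, eq_mul_inv_iff_mul_eq]
      simp only [hσm, pow_succ, pow_zero, one_mul]
      ac_rfl
  have hconj : ∀ (y w : ↥M), χ ((y * (w * (σ w)⁻¹) : ↥M) * e) = χ (y * e) := by
    intro y w
    have h1 := Char.IsChar.classFun hχ ((y : G) * e) (w : G)
    rw [← h1]
    congr 1
    show (y : G) * ((w : G) * (e * w * e⁻¹)⁻¹) * e = w * (y * e) * (w : G)⁻¹
    rw [show (y : G) * ((w : G) * (e * w * e⁻¹)⁻¹) * e = y * w * e * (w : G)⁻¹ by group, hM y y.2 w w.2]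
    group
  have hval : ∀ y : ↥M, χ (y * e) = χ e := by
    intro y
    obtain ⟨k, w, hk, rfl⟩ := hdec y
    rw [hconj]
    have hk' : e * (k : G) = k * e := mul_inv_eq_iff_eq_mul.1 (congrArg Subtype.val hk)
    rw [← hk']
    exact hconst k k.2 hk'
  rw [Finset.sum_congr rfl fun y _ => by rw [hval y], ← Finset.mul_sum, sum_linear_eq_zero hl1, mul_zero]

/-- An abelian part of the core inverted by a central involution, with no condition on `x`. -/
structure Part (S : Sylow 2 G) (z x : G) (K M : Subgroup G) : Prop where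
  le : M ≤ K
  comm : ∀ y ∈ M, ∀ y' ∈ M, y * y' = y' * y
  norm : ∀ c ∈ (S : Subgroup G) ⊔ zpowers x, ∀ y ∈ M, c * y * c⁻¹ ∈ M
  inverted : ∃ a ∈ cen S, ∀ y ∈ M, a * y * a⁻¹ = y⁻¹

namespace Data

variable {S : Sylow 2 G} {z x : G} {K M M₀ : Subgroup G}

theorem part (D : Data S z x K M) : Part S z x K M := ⟨D.M_le, D.M_comm, D.M_norm, D.inverted⟩

theorem cen_self_sq (D : Data S z x K M) {v : G} (hv : v ∈ cen S) : v * v = 1 :=
  congrArg Subtype.val (D.shape.exp _ ((mem_cen (cen_le hv)).1 hv))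

theorem sup_le_cent (D : Data S z x K M) :
    (S : Subgroup G) ⊔ zpowers x ≤ centralizer ({z} : Set G) :=
  sup_le (Hyp.le_cent D.hz) (zpowers_le.2 (mem_centralizer_singleton_iff.2 (D.xcen z D.hz)))

theorem card_sup (D : Data S z x K M) : Nat.card ↥((S : Subgroup G) ⊔ zpowers x) = 64 * orderOf x := by
  classical
  have h64 : Nat.card ↥(S : Subgroup G) = 64 := D.shape.card
  obtain ⟨k, hk⟩ := D.ox
  refine Nat.le_antisymm ?_ (Nat.le_of_dvd Nat.card_pos ?_)
  · have h1 : Function.Surjective (fun p : ↥(S : Subgroup G) × ↥(zpowers x) =>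
        (⟨(p.1 : G) * p.2, mul_mem (mem_sup_left p.1.2) (mem_sup_right p.2.2)⟩ : ↥((S : Subgroup G) ⊔ zpowers x))) := by
      rintro ⟨g, hg⟩
      rw [← SetLike.mem_coe, Subgroup.coe_mul_of_right_le_normalizer_left _ _ (zpowers_le.2 D.hx)] at hg
      obtain ⟨s, hs, t, ht, rfl⟩ := hg
      exact ⟨(⟨s, hs⟩, ⟨t, ht⟩), rfl⟩
    have h2 := Nat.card_le_card_of_surjective _ h1
    rwa [Nat.card_prod, h64, Nat.card_zpowers] at h2
  · have h1 := card_dvd_of_le (le_sup_left : (S : Subgroup G) ≤ (S : Subgroup G) ⊔ zpowers x)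
    have h2 := card_dvd_of_le (le_sup_right : zpowers x ≤ (S : Subgroup G) ⊔ zpowers x)
    rw [h64] at h1
    rw [Nat.card_zpowers] at h2
    refine Nat.Coprime.mul_dvd_of_dvd_of_dvd ?_ h1 h2
    rw [hk]
    exact Nat.Coprime.pow_right _ (by norm_num : Nat.Coprime 64 5)

theorem x_mem_S_eq_one (D : Data S z x K M) {g : G} (hg : g ∈ (S : Subgroup G)) (hgx : g ∈ zpowers x) : g = 1 := by
  obtain ⟨k, hk⟩ := D.ox
  refine eq_one_of_odd hg ?_
  refine Odd.of_dvd_nat (Odd.pow (by decide : Odd 5)) (?_ : orderOf g ∣ 5 ^ k)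
  rw [← hk]
  exact orderOf_dvd_of_mem_zpowers hgx

/-- No four-group of cosets of the centre consists of roots of `z`. -/
theorem no_root_triangle (D : Data S z x K M) {e f : G} (he : e ∈ (S : Subgroup G)) (hf : f ∈ (S : Subgroup G))
    (hee : e * e = z) (hff : f * f = z) (hef : e * f * (e * f) = z) : False := by
  classical
  set T := ↥(S : Subgroup G)
  haveI : Fintype T := Fintype.ofFinite _
  let A := T ⧸ center T
  let π := QuotientGroup.mk' (center T)
  have hAcomm : ∀ p q : A, p * q = q * p := fun p q => by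
    obtain ⟨c, rfl⟩ := QuotientGroup.mk_surjective p
    obtain ⟨d, rfl⟩ := QuotientGroup.mk_surjective q
    refine QuotientGroup.eq.2 ?_
    have h1 := D.shape.comm (d⁻¹) (c⁻¹)
    rw [inv_inv, inv_inv] at h1
    rw [show (c * d)⁻¹ * (d * c) = d⁻¹ * c⁻¹ * d * c by simp [mul_assoc]]
    exact h1
  have hA2 : ∀ p : A, p * p = 1 := fun p => by
    obtain ⟨c, rfl⟩ := QuotientGroup.mk_surjective p
    exact (QuotientGroup.eq_one_iff _).2 (D.shape.sq c)
  letI : CommGroup A := { (inferInstance : Group A) with mul_comm := hAcomm }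
  haveI : Fintype A := Fintype.ofFinite _
  have hcard : Fintype.card A = 16 := by
    rw [← Nat.card_eq_fintype_card]
    have h1 := (center T).card_eq_card_quotient_mul_card_subgroup
    rw [D.shape.card, D.shape.centre] at h1
    show Nat.card (T ⧸ center T) = 16
    omega
  let Q : G → Finset A := fun v => Finset.univ.filter fun p => ∃ w : T, π w = p ∧ (w : G) * w = v
  have huniq : ∀ {w w' : T}, π w = π w' → (w : G) * w = w' * w' := by
    intro w w' hw
    have h1 : w⁻¹ * w' ∈ center T := QuotientGroup.eq.1 hw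
    have h2 : w' = w * (w⁻¹ * w') := by rw [mul_inv_cancel_left]
    rw [← Subgroup.coe_mul, ← Subgroup.coe_mul, h2]
    congr 1
    rw [show w * (w⁻¹ * w') * (w * (w⁻¹ * w')) = w * ((w⁻¹ * w') * w) * (w⁻¹ * w') by group,
      ← mem_center_iff.1 h1 w, show w * (w * (w⁻¹ * w')) * (w⁻¹ * w') = w * w * ((w⁻¹ * w') * (w⁻¹ * w')) by group,
      D.shape.exp _ h1, mul_one]
  -- conjugation on the cosets
  have hmove : ∀ {n v v' : G}, n ∈ normalizer ((S : Subgroup G) : Set G) → n * v * n⁻¹ = v' →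
      ∀ {w : T}, π w ∈ Q v → ∀ w' : T, (w' : G) = n * w * n⁻¹ → π w' ∈ Q v' := by
    intro n v v' hn hv w hw w' hw'
    obtain ⟨w₀, hw₀, e₀⟩ := (Finset.mem_filter.1 hw).2
    refine Finset.mem_filter.2 ⟨Finset.mem_univ _, w', rfl, ?_⟩
    rw [hw', show n * w * n⁻¹ * (n * w * n⁻¹) = n * ((w : G) * w) * n⁻¹ by group, ← huniq hw₀, e₀, hv]
  have hle : ∀ {n v v' : G}, n ∈ normalizer ((S : Subgroup G) : Set G) → n * v * n⁻¹ = v' →
      (Q v).card ≤ (Q v').card := by
    intro n v v' hn hv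
    have hmap : (center T).map (cj hn).toMonoidHom = center T := by
      refine Subgroup.ext fun y => ⟨?_, fun hy => ⟨(cj hn).symm y, ?_, (cj hn).apply_symm_apply y⟩⟩
      · rintro ⟨y, hy, rfl⟩
        exact (mem_center_map (cj hn)).2 hy
      · exact (mem_center_map (cj hn).symm).2 hy
    let τ := QuotientGroup.congr (center T) (center T) (cj hn) hmap
    refine Finset.card_le_card_of_injOn τ (fun p hp => ?_) τ.injective.injOn
    obtain ⟨w, rfl⟩ := QuotientGroup.mk_surjective p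
    exact hmove hn hv hp (cj hn w) (coe_cj hn w)
  have hz2 := D.cen_self_sq D.hz
  -- five cosets for every value
  have hQz : (Q z).card = 5 := by
    let V : Finset G := (Finset.univ.image fun w : ↥(center T) => ((w : T) : G)).erase 1
    have hV : ∀ v, v ∈ V ↔ v ≠ 1 ∧ v ∈ cen S := fun v => by
      simp only [V, Finset.mem_erase, Finset.mem_image, Finset.mem_univ, true_and]
      exact and_congr_right fun _ => ⟨fun ⟨w, hw⟩ => ⟨_, w.2, hw⟩, fun ⟨w, hw, e1⟩ => ⟨⟨w, hw⟩, e1⟩⟩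
    have hVc : V.card = 3 := by
      have h1 : (1 : G) ∈ Finset.univ.image fun w : ↥(center T) => ((w : T) : G) :=
        Finset.mem_image.2 ⟨1, Finset.mem_univ _, rfl⟩
      rw [show V.card = _ from Finset.card_erase_of_mem h1,
        Finset.card_image_of_injective _ fun a b hab => Subtype.ext (Subtype.ext hab), Finset.card_univ,
        ← Nat.card_eq_fintype_card, D.shape.centre]
    have hsame : ∀ v ∈ V, (Q v).card = (Q z).card := fun v hv => by
      obtain ⟨n, hn, e1⟩ := D.fused v ((hV v).1 hv).2 ((hV v).1 hv).1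
      refine le_antisymm (hle (inv_mem hn) ?_) (hle hn e1)
      rw [← e1]; group
    have hdis : (V : Set G).PairwiseDisjoint Q := fun v _ v' _ hne => Finset.disjoint_left.2 fun p hp hp' => by
      obtain ⟨w, hw, e1⟩ := (Finset.mem_filter.1 hp).2
      obtain ⟨w', hw', e2⟩ := (Finset.mem_filter.1 hp').2
      exact hne (e1.symm.trans ((huniq (hw.trans hw'.symm)).trans e2))
    have hcover : V.biUnion Q = (Finset.univ : Finset A).erase 1 := by
      refine Finset.Subset.antisymm (fun p hp => ?_) fun p hp => ?_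
      · obtain ⟨v, hv, hpv⟩ := Finset.mem_biUnion.1 hp
        obtain ⟨w, rfl, e1⟩ := (Finset.mem_filter.1 hpv).2
        refine Finset.mem_erase.2 ⟨fun h1 => ((hV v).1 hv).1 ?_, Finset.mem_univ _⟩
        rw [← e1]
        exact congrArg Subtype.val (D.shape.exp w ((QuotientGroup.eq_one_iff w).1 h1))
      · obtain ⟨w, rfl⟩ := QuotientGroup.mk_surjective p
        refine Finset.mem_biUnion.2 ⟨(w : G) * w, (hV _).2 ⟨fun h1 => (Finset.mem_erase.1 hp).1
          ((QuotientGroup.eq_one_iff w).2 (D.shape.inv w (Subtype.ext h1))), _, D.shape.sq w, rfl⟩,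
          Finset.mem_filter.2 ⟨Finset.mem_univ _, w, rfl, rfl⟩⟩
    have h1 := Finset.card_biUnion hdis
    rw [hcover, Finset.card_erase_of_mem (Finset.mem_univ _), Finset.card_univ, hcard,
      Finset.sum_congr rfl hsame, Finset.sum_const, hVc, smul_eq_mul] at h1
    omega
  -- the product of the five is fixed by `x`
  have hprod : ∏ p ∈ Q z, p = 1 := by
    have hmap : (center T).map (cj D.hx).toMonoidHom = center T := by
      refine Subgroup.ext fun y => ⟨?_, fun hy => ⟨(cj D.hx).symm y, ?_, (cj D.hx).apply_symm_apply y⟩⟩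
      · rintro ⟨y, hy, rfl⟩
        exact (mem_center_map (cj D.hx)).2 hy
      · exact (mem_center_map (cj D.hx).symm).2 hy
    let τ := QuotientGroup.congr (center T) (center T) (cj D.hx) hmap
    have himg : (Q z).image τ = Q z := by
      refine Finset.eq_of_subset_of_card_le (fun p hp => ?_) (by rw [Finset.card_image_of_injective _ τ.injective])
      obtain ⟨q, hq, rfl⟩ := Finset.mem_image.1 hp
      obtain ⟨w, rfl⟩ := QuotientGroup.mk_surjective q
      exact hmove D.hx (by rw [D.xcen z D.hz, mul_inv_cancel_right]) hq (cj D.hx w) (coe_cj D.hx w)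
    have hfix : τ (∏ p ∈ Q z, p) = ∏ p ∈ Q z, p := by
      conv_rhs => rw [← himg, Finset.prod_image τ.injective.injOn]
      exact map_prod τ _ _
    obtain ⟨w, hw⟩ := QuotientGroup.mk_surjective (∏ p ∈ Q z, p)
    rw [← hw] at hfix ⊢
    refine (QuotientGroup.eq_one_iff w).2 ((mem_cen w.2).1 (D.fpf w w.2 ?_))
    have h1 : cj D.hx w * w⁻¹ ∈ center T := by
      have h2 : π (cj D.hx w) = π w := hfix
      rw [← QuotientGroup.eq_one_iff]
      show π (cj D.hx w * w⁻¹) = 1
      rw [map_mul, map_inv, h2, mul_inv_cancel]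
    exact ⟨_, h1, rfl⟩
  set p := π ⟨e, he⟩ with hp
  set q := π ⟨f, hf⟩ with hq
  have hpQ : p ∈ Q z := Finset.mem_filter.2 ⟨Finset.mem_univ _, ⟨e, he⟩, rfl, hee⟩
  have hqQ : q ∈ Q z := Finset.mem_filter.2 ⟨Finset.mem_univ _, ⟨f, hf⟩, rfl, hff⟩
  have hpqQ : p * q ∈ Q z := Finset.mem_filter.2 ⟨Finset.mem_univ _, ⟨e, he⟩ * ⟨f, hf⟩, map_mul π _ _, hef⟩
  have hne1 : ∀ r ∈ Q z, r ≠ 1 := fun r hr h1 => by
    obtain ⟨w, hw, e1⟩ := (Finset.mem_filter.1 hr).2
    refine D.hz1 ?_
    rw [← e1]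
    exact congrArg Subtype.val (D.shape.exp w ((QuotientGroup.eq_one_iff w).1 (hw.trans h1)))
  have hpq : p ≠ q := fun h1 => hne1 _ hpqQ (by rw [h1, hA2])
  have h3p : p ≠ p * q := fun h1 => hne1 q hqQ (mul_eq_left.1 h1.symm)
  have h3q : q ≠ p * q := fun h1 => hne1 p hpQ (mul_eq_right.1 h1.symm)
  have hsub : ({p, q, p * q} : Finset A) ⊆ Q z := by
    simp [Finset.insert_subset_iff, hpQ, hqQ, hpqQ]
  have h3 : ({p, q, p * q} : Finset A).card = 3 := by
    rw [Finset.card_insert_of_notMem (by simp [hpq, h3p]), Finset.card_pair h3q]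
  obtain ⟨r, s, hrs, hr⟩ := Finset.card_eq_two.1 (show (Q z \ {p, q, p * q}).card = 2 by
    rw [Finset.card_sdiff_of_subset hsub, hQz, h3])
  have h4 := Finset.prod_sdiff hsub (f := fun r => r)
  rw [hprod, hr, Finset.prod_pair hrs, Finset.prod_insert (by simp [hpq, h3p]), Finset.prod_pair h3q,
    ← mul_assoc p q, hA2, mul_one] at h4
  exact hrs (mul_right_cancel (h4.trans (hA2 s).symm))

theorem Part.eq_one_of_inv (D : Data S z x K M₀) (E : Part S z x K M) {l : ↥M →* ℂˣ} (h : ∀ y : ↥M, l y⁻¹ = l y) : l = 1 :=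
  MonoidHom.ext fun y => by
    have h2 : l (y * y) = 1 := by rw [map_mul]; nth_rw 1 [← h y]; rw [map_inv, inv_mul_cancel]
    obtain ⟨j, hj⟩ := (D.K_odd.of_dvd_nat (card_dvd_of_le E.le) : Odd (Nat.card ↥M))
    have h3 : y = (y * y) ^ (j + 1) := by
      rw [← pow_two, ← pow_mul, show 2 * (j + 1) = Nat.card ↥M + 1 by omega, pow_succ, pow_card_eq_one', one_mul]
    rw [h3, map_pow, h2, one_pow, MonoidHom.one_apply]

theorem cen_act (D : Data S z x K M₀) (E : Part S z x K M) {l : ↥M →* ℂˣ} (hl1 : l ≠ 1) {t : G} (htc : t ∈ cen S) :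
    t = 1 ∨ t = z ∨ ∀ y ∈ M, t * y * t⁻¹ = y⁻¹ := by
  classical
  have hz2 := D.cen_self_sq D.hz
  have hzM : ∀ y ∈ M, z * y = y * z := fun y hy =>
    (mem_centralizer_singleton_iff.1 (D.K_le (E.le hy))).symm
  obtain ⟨b, hb, hinv⟩ := E.inverted
  by_contra hcon'
  simp only [not_or] at hcon'
  obtain ⟨hc1, hc2, hc3⟩ := hcon'
  refine hc3 ?_
  have hbt : t = b ∨ t = b * z := by
    have hb1 : b ≠ 1 ∧ b ≠ z := by
      refine ⟨fun h1 => hl1 (Part.eq_one_of_inv D E fun y => ?_), fun h1 => hl1 (Part.eq_one_of_inv D E fun y => ?_)⟩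
      · refine congrArg l (Subtype.ext ?_)
        have h2 := hinv y y.2
        rw [h1, one_mul, inv_one, mul_one] at h2
        exact h2.symm
      · refine congrArg l (Subtype.ext ?_)
        have h2 := hinv y y.2
        rw [h1, hzM y y.2, mul_inv_cancel_right] at h2
        exact h2.symm
    have hbz : b * z ∈ cen S := mul_mem hb D.hz
    by_contra hcon'
    push Not at hcon'
    have hsub : ({1, z, b, b * z, t} : Finset G) ⊆ (Set.toFinite (cen S : Set G)).toFinset := by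
      intro w hw
      rw [Set.Finite.mem_toFinset]
      simp only [Finset.mem_insert, Finset.mem_singleton] at hw
      rcases hw with rfl | rfl | rfl | rfl | rfl
      exacts [one_mem _, D.hz, hb, hbz, htc]
    have h1 := Finset.card_le_card hsub
    rw [← Set.ncard_eq_toFinset_card _, ← Nat.card_coe_set_eq] at h1
    have h4 : Nat.card ↥(cen S) = 4 := by
      rw [cen, Subgroup.card_map_of_injective (S : Subgroup G).subtype_injective, D.shape.centre]
    simp only [SetLike.coe_sort_coe, h4] at h1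
    have n1 : (1 : G) ≠ b * z := fun h1 => hb1.2 ((mul_eq_one_iff_eq_inv.1 h1.symm).trans (inv_eq_of_mul_eq_one_right hz2))
    have n2 : z ≠ b * z := fun h1 => hb1.1 (mul_eq_right.1 h1.symm)
    have n3 : b ≠ b * z := fun h1 => D.hz1 (mul_eq_left.1 h1.symm)
    rw [Finset.card_insert_of_notMem (by simp [Ne.symm D.hz1, Ne.symm hb1.1, n1, Ne.symm hc1]),
      Finset.card_insert_of_notMem (by simp [Ne.symm hb1.2, n2, Ne.symm hc2]),
      Finset.card_insert_of_notMem (by simp [n3, Ne.symm hcon'.1]),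
      Finset.card_pair (Ne.symm hcon'.2)] at h1
    omega
  intro w hw
  rcases hbt with rfl | rfl
  · exact hinv w hw
  · rw [show b * z * w * (b * z)⁻¹ = b * (z * w * z⁻¹) * b⁻¹ by group, hzM w hw, mul_inv_cancel_right]
    exact hinv w hw

theorem cen_fix (D : Data S z x K M₀) (E : Part S z x K M) {l : ↥M →* ℂˣ} (hl1 : l ≠ 1) {t : G} (htc : t ∈ cen S)
    (hmem : ∀ y : ↥M, t * y * t⁻¹ ∈ M) (hfix : ∀ y : ↥M, l ⟨t * y * t⁻¹, hmem y⟩ = l y) : t = 1 ∨ t = z := by
  rcases D.cen_act E hl1 htc with h | h | h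
  exacts [Or.inl h, Or.inr h, absurd (Part.eq_one_of_inv D E fun y =>
    (congrArg l (Subtype.ext (h y y.2).symm)).trans (hfix y)) hl1]

/-- A nontrivial linear character occurs an even number of times. -/
theorem two_dvd_mult (D : Data S z x K M₀) (E : Part S z x K M) [Fintype ↥M] {χ : G → ℂ} (hχ : IsCharacter G χ)
    {l : ↥M →* ℂˣ} (hl1 : l ≠ 1) (hz : ∀ y ∈ M, χ (z * y) = χ z) {k : ℕ}
    (hk : classInner (fun y : ↥M => χ y) (fun y => (l y : ℂ)) = k) : 2 ∣ k := by
  have hz2 := D.cen_self_sq D.hz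
  have hzM : ∀ y ∈ M, z * y = y * z := fun y hy =>
    (mem_centralizer_singleton_iff.1 (D.K_le (E.le hy))).symm
  have hzn : z ∈ normalizer (M : Set G) := mem_normalizer_fintype fun y hy =>
    show z * y * z⁻¹ ∈ M by rw [hzM y hy, mul_inv_cancel_right]; exact hy
  obtain ⟨j, hj⟩ := dvd_mult hχ hzn l (fun y => congrArg l (Subtype.ext (by
      show z * (y : G) * z⁻¹ = y
      rw [hzM y y.2, mul_inv_cancel_right]))) (fun g hg hg1 => by
    obtain ⟨i, rfl⟩ := mem_zpowers_iff.1 hg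
    have hgz : z ^ i = z := by
      rcases Int.even_or_odd i with ⟨j, rfl⟩ | ⟨j, rfl⟩
      · exact absurd (by rw [← two_mul, zpow_mul, zpow_two, hz2, one_zpow]) hg1
      · rw [zpow_add, zpow_mul, zpow_two, hz2, one_zpow, one_mul, zpow_one]
    rw [hgz, Finset.sum_congr rfl fun y _ => by rw [← hzM y y.2, hz y y.2], ← Finset.mul_sum,
      sum_linear_eq_zero hl1, mul_zero])
  rw [hk, show orderOf z = 2 from orderOf_eq_prime (by rw [pow_two, hz2]) D.hz1] at hj
  exact ⟨j, Nat.cast_injective hj⟩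

set_option maxHeartbeats 1000000 in
/-- A character that is constant on the two kinds of cosets and not constant on `M` has degree at least `320`, or
one of its nontrivial constituents on `M` is fixed by `x`. -/
theorem degree_ge_or_fixed (D : Data S z x K M₀) (E : Part S z x K M) [Fintype ↥M] {χ : G → ℂ} (hχ : IsCharacter G χ)
    {n : ℕ} (hn : χ 1 = n) (hne : ∃ y ∈ M, χ y ≠ χ 1) (hz : ∀ y ∈ M, χ (z * y) = χ z)
    (he : ∀ e ∈ (S : Subgroup G), e * e = z → ∀ y ∈ M, e * y = y * e → χ (e * y) = χ e) :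
    320 ≤ n ∨ ∃ l : ↥M →* ℂˣ, l ≠ 1 ∧
      (∀ (y : ↥M) (hy : x * y * x⁻¹ ∈ M), l ⟨x * y * x⁻¹, hy⟩ = l y) ∧
      classInner (fun y : ↥M => χ y) (fun y => (l y : ℂ)) ≠ 0 := by
  refine or_iff_not_imp_right.2 fun hnf => ?_
  classical
  haveI : Fact (Nat.Prime 2) := ⟨Nat.prime_two⟩
  haveI : Fact (Nat.Prime 5) := ⟨by norm_num⟩
  obtain ⟨k₀, hk₀⟩ := D.ox
  set R := (S : Subgroup G) ⊔ zpowers x with hR
  haveI : Fintype ↥R := Fintype.ofFinite _
  have hRC := D.sup_le_cent
  have hodd : Odd (Nat.card ↥M) := D.K_odd.of_dvd_nat (card_dvd_of_le E.le)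
  have hnorm : ∀ {c : G}, c ∈ R → c ∈ normalizer (M : Set G) := fun {c} hc =>
    mem_normalizer_fintype fun y hy => E.norm c hc y hy
  have hresχ : IsCharacter ↥M (fun y : ↥M => χ y) := Char.IsChar.res hχ M
  obtain ⟨a, ha, hdec⟩ := Char.IsChar.exists_decomp_inner hresχ
  -- a nontrivial constituent
  obtain ⟨ψ, hψ0, hψ1⟩ : ∃ ψ : IrrCharacter ↥M, a ψ ≠ 0 ∧ ∃ y, (ψ : ↥M → ℂ) y ≠ (ψ : ↥M → ℂ) 1 := by
    by_contra hcon
    push Not at hcon
    obtain ⟨y, hy, hne⟩ := hne
    refine hne ?_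
    show (fun y : ↥M => χ y) ⟨y, hy⟩ = (fun y : ↥M => χ y) 1
    rw [hdec]
    simp only [Finset.sum_apply, Pi.smul_apply]
    refine Finset.sum_congr rfl fun φ _ => ?_
    by_cases h0 : a φ = 0
    · simp [h0]
    · rw [hcon φ h0 ⟨y, hy⟩]
  have hlinear : (ψ : ↥M → ℂ) 1 = 1 :=
    Char.IsIrr.one_of_comm (fun y y' => Subtype.ext (E.comm y y.2 y' y'.2)) ψ.2
  obtain ⟨l, hl⟩ := Char.linearHom_of_isCharacter (Char.IsIrr.isCharacter ψ.2) hlinear
  let mult : (↥M →* ℂˣ) → ℕ := fun m => a ⟨fun y => (m y : ℂ), Char.isIrr_linear m⟩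
  have hmult : ∀ m : ↥M →* ℂˣ, classInner (fun y : ↥M => χ y) (fun y => (m y : ℂ)) = mult m := fun m => by
    have h1 := ha ⟨fun y => (m y : ℂ), Char.isIrr_linear m⟩
    simpa only [mult] using h1
  have hl0 : mult l ≠ 0 := by
    show a ⟨fun y => (l y : ℂ), Char.isIrr_linear l⟩ ≠ 0
    rw [show (⟨fun y => (l y : ℂ), Char.isIrr_linear l⟩ : IrrCharacter ↥M) = ψ from Subtype.ext hl.symm]
    exact hψ0
  have hl1 : l ≠ 1 := fun h1 => by
    obtain ⟨y, hy⟩ := hψ1
    rw [hl, h1] at hy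
    simp at hy
  -- the conjugates
  let tr : ↥R → (↥M →* ℂˣ) := fun g => l.comp (M.normalizerMonoidHom ⟨g, hnorm g.2⟩).toMonoidHom
  have htr : ∀ (g : ↥R) (y : ↥M), tr g y = l ⟨(g : G) * y * (g : G)⁻¹,
      E.norm _ g.2 y y.2⟩ := fun _ _ => rfl
  have hsame : ∀ g : ↥R, mult (tr g) = mult l := fun g => by
    refine Nat.cast_injective (R := ℂ) ?_
    rw [← hmult, ← hmult]
    simp only [classInner]
    refine congrArg _ (Fintype.sum_equiv (M.normalizerMonoidHom ⟨g, hnorm g.2⟩).toEquiv _ _ fun y => ?_)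
    exact congrArg (· * _) (Char.IsChar.classFun hχ (y : G) (g : G)).symm
  let T : Subgroup ↥R :=
    { carrier := {g | tr g = l}
      one_mem' := MonoidHom.ext fun y => congrArg l (Subtype.ext (by simp))
      mul_mem' := fun {g g'} hg hg' => MonoidHom.ext fun y => by
        rw [← DFunLike.congr_fun hg' y, htr g', ← DFunLike.congr_fun hg _, htr, htr]
        exact congrArg l (Subtype.ext (by simp [mul_assoc]))
      inv_mem' := fun {g} hg => MonoidHom.ext fun y => by
        rw [htr, ← DFunLike.congr_fun hg _, htr]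
        exact congrArg l (Subtype.ext (by simp [mul_assoc])) }
  have hfib : ∀ g g' : ↥R, tr g = tr g' → g' * g⁻¹ ∈ T := fun g g' h1 => MonoidHom.ext fun y => by
    have h2 := (DFunLike.congr_fun h1 ⟨(g : G)⁻¹ * y * g, by
      simpa using E.norm _ (inv_mem g.2) y y.2⟩).symm
    rw [htr, htr] at h2
    rw [htr]
    refine (Eq.trans (congrArg l (Subtype.ext ?_)) h2).trans (congrArg l (Subtype.ext ?_))
    · simp [mul_assoc]
    · simp [mul_assoc]
  -- the degree is at least the contribution of the conjugates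
  set O := (Finset.univ : Finset ↥R).image tr with hO
  have hdeg : O.card * mult l ≤ n := by
    have h1 := congrFun hdec 1
    simp only [Finset.sum_apply, Pi.smul_apply, OneMemClass.coe_one, hn, smul_eq_mul] at h1
    rw [Finset.sum_congr rfl fun φ _ => by
      rw [Char.IsIrr.one_of_comm (fun y y' => Subtype.ext (E.comm y y.2 y' y'.2)) φ.2, mul_one],
      ← Nat.cast_sum] at h1
    rw [Nat.cast_injective h1, ← smul_eq_mul, ← Finset.sum_const]
    rw [Finset.sum_congr rfl (g := mult) fun m hm => by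
      obtain ⟨g, -, rfl⟩ := Finset.mem_image.1 hm
      exact (hsame g).symm]
    let toIrr : (↥M →* ℂˣ) → IrrCharacter ↥M := fun m => ⟨fun y => (m y : ℂ), Char.isIrr_linear m⟩
    have hinj : Function.Injective toIrr := fun m m' h1 => MonoidHom.ext fun y =>
      Units.ext (congrFun (congrArg Subtype.val h1) y)
    rw [show ∑ m ∈ O, mult m = ∑ φ ∈ O.image toIrr, a φ from (Finset.sum_image hinj.injOn).symm]
    exact Finset.sum_le_univ_sum_of_nonneg fun _ => Nat.zero_le _
  -- the stabiliser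
  have hlfix : ∀ (g : G) (hg : g ∈ R), (⟨g, hg⟩ : ↥R) ∈ T →
      ∀ y : ↥M, l ⟨g * y * g⁻¹, (mem_normalizer_iff.1 (hnorm hg) y).1 y.2⟩ = l y := fun g hg hT y =>
    DFunLike.congr_fun (show tr ⟨g, hg⟩ = l from hT) y
  have hxfix : ∀ m : ↥M →* ℂˣ, mult m ≠ 0 → (∀ y : ↥M,
      m ⟨x * y * x⁻¹, E.norm x (mem_sup_right (mem_zpowers x)) y y.2⟩ = m y) → m = 1 := fun m hm hm' => by
    by_contra h1
    exact hnf ⟨m, h1, fun y _ => hm' y, by rw [hmult]; exact Nat.cast_ne_zero.2 hm⟩
  have h5 : ∀ t ∈ T, ∀ (w : G) (i : ℕ), w ∈ (S : Subgroup G) → (t : G) = w * x ^ i → 5 ∣ i := fun t ht w i hw e => by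
    by_contra hi
    have hpow : ∀ n : ℕ, ∃ s ∈ (S : Subgroup G), (t : G) ^ n = s * x ^ (i * n) := fun n => by
      induction n with
      | zero => exact ⟨1, one_mem _, by simp⟩
      | succ n ih =>
        obtain ⟨s, hs, e1⟩ := ih
        refine ⟨s * (x ^ (i * n) * w * (x ^ (i * n))⁻¹),
          mul_mem hs ((mem_normalizer_iff.1 (pow_mem D.hx _) w).1 hw), ?_⟩
        rw [pow_succ, e1, e, Nat.mul_succ, pow_add]
        group
    have hk1 : 1 < 5 ^ k₀ := by
      refine Nat.one_lt_pow (fun h0 => ?_) (by norm_num)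
      rw [h0, pow_zero, orderOf_eq_one_iff] at hk₀
      have hall : ∀ w ∈ (S : Subgroup G), w ∈ cen S := fun w hw => D.fpf w hw (by
        rw [hk₀]; simp)
      have h1 := card_le_of_le (show (S : Subgroup G) ≤ cen S from hall)
      rw [show Nat.card ↥(cen S) = 4 by
        rw [cen, Subgroup.card_map_of_injective (S : Subgroup G).subtype_injective, D.shape.centre],
        D.shape.card] at h1
      omega
    obtain ⟨m, -, hm⟩ := Nat.exists_mul_mod_eq_one_of_coprime (k := 5 ^ k₀) (n := 64 * i)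
      (Nat.Coprime.pow_right _ (Nat.Coprime.mul_left (by norm_num)
        ((Nat.prime_five.coprime_iff_not_dvd.2 hi).symm))) hk1
    obtain ⟨s, hs, hu⟩ := hpow (64 * m)
    rw [show x ^ (i * (64 * m)) = x by
      rw [← pow_mod_orderOf, hk₀, show i * (64 * m) = 64 * i * m by ring, hm, pow_one]] at hu
    have hu1 : (t ^ (64 * m) : ↥R) ^ 5 ^ k₀ = 1 := by
      rw [← pow_mul, show 64 * m * 5 ^ k₀ = 64 * 5 ^ k₀ * m by ring, pow_mul, ← hk₀, ← D.card_sup]
      simp [← hR]
    let P : Sylow 5 ↥R := Sylow.ofCard ((zpowers x).subgroupOf R) (by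
      rw [Nat.card_congr (subgroupOfEquivOfLe (le_sup_right : zpowers x ≤ R)).toEquiv, Nat.card_zpowers,
        D.card_sup, hk₀, Nat.factorization_mul (by norm_num) (by positivity),
        Finsupp.add_apply, Nat.factorization_eq_zero_of_not_dvd (by norm_num), zero_add,
        Nat.Prime.factorization_pow (by norm_num), Finsupp.single_eq_same])
    obtain ⟨j, -, hj⟩ := (Nat.dvd_prime_pow Nat.prime_five).1 (orderOf_dvd_of_pow_eq_one hu1)
    obtain ⟨k, hk⟩ := Invol.exists_conj_mem_sylow (x := (t ^ (64 * m) : ↥R)) (p := 5) (n := j) hj P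
    have hconj : (k : G) * (s * x) * (k : G)⁻¹ = x := by
      have hk' : (k : G) * (t : G) ^ (64 * m) * (k : G)⁻¹ ∈ zpowers x := hk
      rw [hu] at hk'
      obtain ⟨a, ha, b, hb, hab⟩ := show (k : G) ∈ ((S : Subgroup G) : Set G) * ((zpowers x : Subgroup G) : Set G) by
        rw [← Subgroup.coe_mul_of_right_le_normalizer_left _ _ (zpowers_le.2 D.hx)]
        exact k.2
      obtain ⟨b, rfl⟩ := mem_zpowers_iff.1 hb
      refine mul_inv_eq_one.1 (D.x_mem_S_eq_one ?_ (mul_mem hk' (inv_mem (mem_zpowers x))))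
      have hxn : ∀ (n : ℤ) {w : G}, w ∈ (S : Subgroup G) → x ^ n * w * (x ^ n)⁻¹ ∈ (S : Subgroup G) :=
        fun n w hw => (mem_normalizer_iff.1 (zpow_mem D.hx n) w).1 hw
      rw [← hab]
      rw [show a * x ^ b * (s * x) * (a * x ^ b)⁻¹ * x⁻¹ =
        a * (x ^ b * s * (x ^ b)⁻¹) * (x ^ (1 : ℤ) * a⁻¹ * (x ^ (1 : ℤ))⁻¹) by group]
      exact mul_mem (mul_mem ha (hxn b hs)) (hxn 1 (inv_mem ha))
    have hfix : ∀ y : ↥M, tr k⁻¹ ⟨x * y * x⁻¹, E.norm x (mem_sup_right (mem_zpowers x)) y y.2⟩ =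
        tr k⁻¹ y := by
      intro y
      let xR : ↥R := ⟨x, mem_sup_right (mem_zpowers x)⟩
      have hmem : k⁻¹ * xR * k ∈ T := by
        rw [show k⁻¹ * xR * k = t ^ (64 * m) from Subtype.ext (by
          rw [Subgroup.coe_mul, Subgroup.coe_mul, Subgroup.coe_inv, Subgroup.coe_pow, hu,
            show (xR : G) = x from rfl]
          calc (k : G)⁻¹ * x * k = (k : G)⁻¹ * ((k : G) * (s * x) * (k : G)⁻¹) * k := by rw [hconj]
            _ = s * x := by group)]
        exact pow_mem ht _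
      have h1 := DFunLike.congr_fun (show tr (k⁻¹ * xR * k) = l from hmem)
        ⟨((k⁻¹ : ↥R) : G) * y * (((k⁻¹ : ↥R) : G))⁻¹, E.norm _ (k⁻¹).2 y y.2⟩
      rw [htr] at h1
      rw [htr, htr]
      refine Eq.trans (congrArg l (Subtype.ext ?_)) h1
      simp [xR, mul_assoc]
    have h1 := hxfix _ (by rw [hsame]; exact hl0) hfix
    refine hl1 (MonoidHom.ext fun y => ?_)
    have h2 := DFunLike.congr_fun h1 ⟨(k : G) * y * (k : G)⁻¹, E.norm _ k.2 y y.2⟩
    rw [htr] at h2
    exact (congrArg l (Subtype.ext (by simp [mul_assoc]))).trans h2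
  let TS : Finset ↥R := Finset.univ.filter fun g => g ∈ T ∧ (g : G) ∈ (S : Subgroup G)
  have hTO : 320 ≤ O.card * TS.card := by
    let F : ↥(S : Subgroup G) × Fin 5 → ↥R := fun p =>
      ⟨(p.1 : G) * x ^ (p.2 : ℕ), mul_mem (mem_sup_left p.1.2) (mem_sup_right (pow_mem (mem_zpowers x) _))⟩
    haveI : Fintype ↥(S : Subgroup G) := Fintype.ofFinite _
    have h1 := Finset.card_le_mul_card_image (f := fun p => tr (F p))
      (s := (Finset.univ : Finset (↥(S : Subgroup G) × Fin 5))) TS.card ?_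
    · rw [Finset.card_univ, Fintype.card_prod, Fintype.card_fin, ← Nat.card_eq_fintype_card, D.shape.card] at h1
      refine le_trans h1 ?_
      rw [mul_comm]
      refine Nat.mul_le_mul_right _ (Finset.card_le_card fun m hm => ?_)
      obtain ⟨p, -, rfl⟩ := Finset.mem_image.1 hm
      exact Finset.mem_image.2 ⟨F p, Finset.mem_univ _, rfl⟩
    intro m hm
    obtain ⟨q, -, rfl⟩ := Finset.mem_image.1 hm
    have key : ∀ {p}, tr (F p) = tr (F q) → p.2 = q.2 ∧ (F p * (F q)⁻¹) ∈ TS := by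
      intro p hp
      have hmem := hfib (F q) (F p) hp.symm
      have hxS : ∀ (i : ℕ) {w : G}, w ∈ (S : Subgroup G) → x ^ i * w * (x ^ i)⁻¹ ∈ (S : Subgroup G) :=
        fun i w hw => (mem_normalizer_iff.1 (pow_mem D.hx i) w).1 hw
      have hp2 : p.2 = q.2 := by
        refine Fin.ext ?_
        have h5' : 5 ∣ (p.2 : ℕ) + (q.2 : ℕ) * (5 ^ k₀ - 1) := by
          refine h5 _ hmem ((p.1 : G) * (x ^ ((p.2 : ℕ) + (q.2 : ℕ) * (5 ^ k₀ - 1)) * (q.1 : G)⁻¹ *
            (x ^ ((p.2 : ℕ) + (q.2 : ℕ) * (5 ^ k₀ - 1)))⁻¹)) _ (mul_mem p.1.2 (hxS _ (inv_mem q.1.2))) ?_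
          have hinvx : (x ^ (q.2 : ℕ))⁻¹ = x ^ ((q.2 : ℕ) * (5 ^ k₀ - 1)) := by
            refine inv_eq_of_mul_eq_one_right ?_
            rw [← pow_add, ← mul_one_add, Nat.add_sub_cancel' (Nat.one_le_pow _ _ (by norm_num)),
              ← hk₀, mul_comm, pow_mul, pow_orderOf_eq_one, one_pow]
          show (p.1 : G) * x ^ (p.2 : ℕ) * ((q.1 : G) * x ^ (q.2 : ℕ))⁻¹ = _
          rw [mul_inv_rev, hinvx, pow_add]
          group
        rcases Nat.eq_zero_or_pos k₀ with h0 | h0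
        · have := p.2.isLt; have := q.2.isLt
          rw [h0] at h5'; norm_num at h5'
          exfalso
          rw [h0, pow_zero, orderOf_eq_one_iff] at hk₀
          have := h5 1 T.one_mem 1 1 (one_mem _) (by simp [hk₀])
          norm_num at this
        · obtain ⟨c, hc⟩ : 5 ∣ 5 ^ k₀ := dvd_pow_self 5 (Nat.pos_iff_ne_zero.1 h0)
          have hc1 : 1 ≤ c := by
            rcases c with _ | c
            · simp at hc
            · omega
          obtain ⟨d, hd⟩ := h5'
          have := p.2.isLt; have := q.2.isLt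
          rw [hc] at hd
          have e2 : (q.2 : ℕ) * (5 * c - 1) + q.2 = 5 * (q.2 * c) := by
            rw [← Nat.mul_succ, Nat.succ_eq_add_one, Nat.sub_add_cancel (by omega)]; ring
          omega
      refine ⟨hp2, Finset.mem_filter.2 ⟨Finset.mem_univ _, hmem, ?_⟩⟩
      show (p.1 : G) * x ^ (p.2 : ℕ) * ((q.1 : G) * x ^ (q.2 : ℕ))⁻¹ ∈ (S : Subgroup G)
      rw [hp2, show (p.1 : G) * x ^ (q.2 : ℕ) * ((q.1 : G) * x ^ (q.2 : ℕ))⁻¹ = p.1 * (q.1 : G)⁻¹ by group]
      exact mul_mem p.1.2 (inv_mem q.1.2)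
    refine Finset.card_le_card_of_injOn (fun p => F p * (F q)⁻¹)
      (fun p hp => Finset.mem_coe.2 (key (Finset.mem_filter.1 hp).2).2) ?_
    intro p₁ h1 p₂ h2 e
    have e1 := key (Finset.mem_filter.1 h1).2
    have e2 := key (Finset.mem_filter.1 h2).2
    have h12 : p₁.2 = p₂.2 := e1.1.trans e2.1.symm
    have e3 : (p₁.1 : G) * x ^ (p₁.2 : ℕ) = p₂.1 * x ^ (p₂.2 : ℕ) := congrArg Subtype.val (mul_right_cancel e)
    rw [h12] at e3
    exact Prod.ext (Subtype.ext (mul_right_cancel e3)) h12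
  have hz2 := D.cen_self_sq D.hz
  have hzR : z ∈ R := mem_sup_left (cen_le D.hz)
  have hzM : ∀ y ∈ M, z * y = y * z := fun y hy =>
    (mem_centralizer_singleton_iff.1 (D.K_le (E.le hy))).symm
  have hTcen : ∀ t ∈ T, (t : G) ∈ cen S → (t : G) = 1 ∨ (t : G) = z := fun t ht htc =>
    D.cen_fix E hl1 htc (fun y => E.norm _ t.2 y y.2) (hlfix t t.2 ht)
  have hroot : ∀ t ∈ T, (t : G) ∈ (S : Subgroup G) → (t : G) ∉ cen S → (t : G) * t = z := by
    intro t ht hts htc
    rcases hTcen _ (mul_mem ht ht) ⟨_, D.shape.sq ⟨t, hts⟩, rfl⟩ with e1 | e1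
    · exact absurd ((mem_cen hts).2 (D.shape.inv ⟨t, hts⟩ (Subtype.ext e1))) htc
    · exact e1
  have h2mult : 2 ∣ mult l :=
    D.two_dvd_mult E hχ hl1 hz (hmult l)
  by_cases hex : ∃ t ∈ T, (t : G) ∈ (S : Subgroup G) ∧ (t : G) ∉ cen S
  · obtain ⟨t, ht, htS, htc⟩ := hex
    have htt := hroot t ht htS htc
    have ht4 : (t : G) ^ 4 = 1 := by rw [show (4 : ℕ) = 2 * 2 from rfl, pow_mul, pow_two, pow_two, htt, hz2]
    have hto : orderOf (t : G) = 4 := orderOf_eq_prime_pow (p := 2) (n := 1)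
      (by rw [pow_one, pow_two, htt]; exact D.hz1) ht4
    have hnt := hnorm t.2
    have hcoset : ∀ (g : ↥R), g ∈ T → (g : G) ∈ (S : Subgroup G) → (g : G) * g = z → ∑ y : ↥M, χ (y * (g : G)) * conj (l y : ℂ) = 0 :=
      fun g hg hgS hgg => coset_sum_eq_zero hχ E.comm hodd (hnorm g.2)
        (by rw [show (4 : ℕ) = 2 * 2 from rfl, pow_mul, pow_two, pow_two, hgg, hz2]) hl1 (hlfix g g.2 hg)
        (he g hgS hgg)
    obtain ⟨j, hj⟩ := dvd_mult hχ hnt l (hlfix t t.2 ht) (fun g hg hg1 => by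
      obtain ⟨i, rfl⟩ := (isOfFinOrder_of_finite (t : G)).mem_powers_iff_mem_zpowers.2 hg
      show ∑ y : ↥M, χ (y * (t : G) ^ i) * conj (l y : ℂ) = 0
      simp only at hg1
      rw [← pow_mod_orderOf, hto] at hg1 ⊢
      have h4 : i % 4 < 4 := Nat.mod_lt _ (by norm_num)
      interval_cases hi : i % 4
      · exact absurd (pow_zero _) hg1
      · rw [pow_one]; exact hcoset t ht htS htt
      · rw [pow_two, htt, Finset.sum_congr rfl fun y _ => by rw [← hzM y y.2, hz y y.2], ← Finset.mul_sum,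
          sum_linear_eq_zero hl1, mul_zero]
      · exact hcoset (t ^ 3) (pow_mem ht 3) (by rw [Subgroup.coe_pow]; exact pow_mem htS 3) (by
          rw [Subgroup.coe_pow, ← pow_add, show 3 + 3 = 4 + 2 from rfl, pow_add, ht4, one_mul, pow_two, htt]))
    rw [hmult, hto] at hj
    have h4 : 4 ≤ mult l := by
      rw [Nat.cast_injective hj] at hl0 ⊢
      rcases j with _ | j
      · exact absurd (mul_zero 4) hl0
      · omega
    have hT4 : TS.card ≤ 4 := by
      have hall : (TS.image (fun g : ↥R => (g : G))) ⊆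
          {1, z, (t : G), (t : G) * z} := by
        intro g hg
        obtain ⟨s, hs, rfl⟩ := Finset.mem_image.1 hg
        obtain ⟨hs, hsS⟩ := (Finset.mem_filter.1 hs).2
        simp only [Finset.mem_insert, Finset.mem_singleton]
        by_cases hsc : (s : G) ∈ cen S
        · rcases hTcen s hs hsc with e1 | e1
          exacts [Or.inl e1, Or.inr (Or.inl e1)]
        by_cases hpc : ((t⁻¹ * s : ↥R) : G) ∈ cen S
        · rcases hTcen _ (mul_mem (inv_mem ht) hs) hpc with e1 | e1 <;> rw [Subgroup.coe_mul, Subgroup.coe_inv] at e1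
          · exact Or.inr (Or.inr (Or.inl (inv_mul_eq_one.1 e1).symm))
          · exact Or.inr (Or.inr (Or.inr (inv_mul_eq_iff_eq_mul.1 e1)))
        refine (D.no_root_triangle (inv_mem htS) hsS ?_ (hroot s hs hsS hsc) ?_).elim
        · rw [← mul_inv_rev, htt, inv_eq_of_mul_eq_one_right hz2]
        · have h1 := hroot _ (mul_mem (inv_mem ht) hs) (by simpa using mul_mem (inv_mem htS) hsS) hpc
          simpa using h1
      have h1 := Finset.card_le_card hall
      rw [Finset.card_image_of_injective _ Subtype.val_injective] at h1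
      exact h1.trans Finset.card_le_four
    calc 320 ≤ O.card * TS.card := hTO
      _ ≤ O.card * mult l := Nat.mul_le_mul_left _ (hT4.trans h4)
      _ ≤ n := hdeg
  · push Not at hex
    have hT2 : TS.card ≤ 2 := by
      have hall : (TS.image (fun g : ↥R => (g : G))) ⊆ {1, z} := by
        intro g hg
        obtain ⟨s, hs, rfl⟩ := Finset.mem_image.1 hg
        obtain ⟨hs, hsS⟩ := (Finset.mem_filter.1 hs).2
        simp only [Finset.mem_insert, Finset.mem_singleton]
        exact hTcen s hs (hex s hs hsS)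
      have h1 := Finset.card_le_card hall
      rw [Finset.card_image_of_injective _ Subtype.val_injective] at h1
      exact h1.trans Finset.card_le_two
    have h2 : 2 ≤ mult l := Nat.le_of_dvd (Nat.pos_of_ne_zero hl0) h2mult
    calc 320 ≤ O.card * TS.card := hTO
      _ ≤ O.card * mult l := Nat.mul_le_mul_left _ (hT2.trans h2)
      _ ≤ n := hdeg

/-- When `x` has no fixed point on `M` the degree is at least `320`. -/
theorem degree_ge_of_isCharacter (D : Data S z x K M) {χ : G → ℂ} (hχ : IsCharacter G χ) {n : ℕ} (hn : χ 1 = n)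
    (hne : ∃ y ∈ M, χ y ≠ χ 1) (hz : ∀ y ∈ M, χ (z * y) = χ z)
    (he : ∀ e ∈ (S : Subgroup G), e * e = z → ∀ y ∈ M, e * y = y * e → χ (e * y) = χ e) : 320 ≤ n := by
  classical
  haveI : Fintype ↥M := Fintype.ofFinite _
  refine (D.degree_ge_or_fixed D.part hχ hn hne hz he).resolve_right ?_
  rintro ⟨m, hm1, hm, -⟩
  have hxM : ∀ y : ↥M, x * (y : G) * x⁻¹ ∈ M := fun y =>
    D.M_norm x (mem_sup_right (mem_zpowers x)) y y.2
  let d : ↥M → ↥M := fun y => y * (⟨x * y * x⁻¹, hxM y⟩)⁻¹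
  have hd : Function.Injective d := fun y y' h1 => by
    have h2 : (y : G) * (x * y * x⁻¹)⁻¹ = y' * (x * y' * x⁻¹)⁻¹ := congrArg Subtype.val h1
    have h3 : (y' : G)⁻¹ * y = 1 := by
      refine D.x_free _ (M.mul_mem (M.inv_mem y'.2) y.2) (mul_inv_eq_iff_eq_mul.1 ?_)
      calc x * ((y' : G)⁻¹ * y) * x⁻¹ = (x * y' * x⁻¹)⁻¹ * (x * y * x⁻¹) := by group
        _ = (y' : G)⁻¹ * ((y' : G) * (x * y' * x⁻¹)⁻¹) * (x * y * x⁻¹) := by group
        _ = (y' : G)⁻¹ * y := by rw [← h2]; group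
    exact Subtype.ext (inv_mul_eq_one.1 h3).symm
  refine hm1 (MonoidHom.ext fun y => ?_)
  obtain ⟨w, rfl⟩ := Finite.injective_iff_surjective.1 hd y
  show m (w * _) = 1
  rw [map_mul, map_inv, hm, mul_inv_cancel]

/-- The bound for an irreducible character. -/
theorem degree_ge (D : Data S z x K M) (χ : IrrCharacter G) (hne : ∃ y ∈ M, (χ : G → ℂ) y ≠ (χ : G → ℂ) 1)
    (hz : ∀ y ∈ M, (χ : G → ℂ) (z * y) = (χ : G → ℂ) z)
    (he : ∀ e ∈ (S : Subgroup G), e * e = z → ∀ y ∈ M, e * y = y * e → (χ : G → ℂ) (e * y) = (χ : G → ℂ) e) :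
    320 ≤ charDegree (χ : G → ℂ) := by
  haveI : Fintype G := Fintype.ofFinite G
  exact D.degree_ge_of_isCharacter (Char.IsIrr.isCharacter χ.2) (Block.charDeg_spec' χ) hne hz he

end Data

end Cfsg.Agent.Transfer.UnitaryCore
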