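import Cfsg.Agent.Lib.Transfer.UnitaryCore.Cols
import Cfsg.Agent.Lib.Transfer.UnitaryCore.DegreeBound

/-!
# The inverted part of the core is trivial in a simple group
-/

set_option autoImplicit false
set_option linter.unusedSectionVars false
set_option linter.style.haveILetI false

namespace Cfsg.Agent.Transfer.UnitaryCore

open Cfsg Subgroup UnitaryFour Cfsg.Agent.Block

universe u

variable {G : Type u} [Group G] [Finite G]

/-- The degree lemma wanted by the counting. -/
def DegreeBound (S : Sylow 2 G) (z : G) (M : Subgroup G) : Prop :=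
  ∀ χ : IrrCharacter G, (∃ y ∈ M, (χ : G → ℂ) y ≠ (χ : G → ℂ) 1) →
    (∀ y ∈ M, (χ : G → ℂ) (z * y) = (χ : G → ℂ) z) →
    (∀ e ∈ (S : Subgroup G), e * e = z → ∀ y ∈ M, e * y = y * e → (χ : G → ℂ) (e * y) = (χ : G → ℂ) e) →
    320 ≤ charDegree (χ : G → ℂ)

namespace Data

variable {S : Sylow 2 G} {z x : G} {K M : Subgroup G} (D : Data S z x K M)
include D

theorem eq_bot_of_degreeBound [IsSimpleGroup G] (hb : DegreeBound S z M) : M = ⊥ := by
  by_contra hM
  obtain ⟨y₀, hy₀, hy1⟩ : ∃ y ∈ M, y ≠ (1 : G) := by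
    by_contra hno
    push Not at hno
    exact hM ((Subgroup.eq_bot_iff_forall M).2 hno)
  cases nonempty_fintype G
  obtain ⟨I, hI⟩ := Cfsg.Agent.Char.exists_isPModular 2 Nat.prime_two
  refine D.false_of_degree hI fun χ hχ hne => hb χ ?_ (fun y hy => D.val_core hI hχ (D.M_le hy))
    (fun e he hez y hy hey => D.val_root hI hχ he hez (D.M_le hy) hey)
  refine ⟨y₀, hy₀, fun h => ?_⟩
  rcases (Cfsg.Agent.Char.charKer_normal (irr_isChar χ)).eq_bot_or_eq_top with hk | hk
  · exact hy1 (Subgroup.mem_bot.1 (hk ▸ (Cfsg.Agent.Char.mem_charKer _).2 h))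
  · exact hne (Subtype.ext (Cfsg.Agent.Char.irr_const_eq_one χ.2 fun g =>
      (Cfsg.Agent.Char.mem_charKer (irr_isChar χ)).1 (hk ▸ Subgroup.mem_top g)))

/-- The inverted part of the core is trivial. -/
theorem eq_bot [IsSimpleGroup G] : M = ⊥ := by
  cases nonempty_fintype G
  exact D.eq_bot_of_degreeBound fun χ hne hz he => D.degree_ge χ hne hz he

end Data

end Cfsg.Agent.Transfer.UnitaryCore
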