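import Cfsg.Agent.Lib.Transfer.UnitaryCore.DegreeBound
import Cfsg.Agent.Lib.Block.PrincipalColumn
import Cfsg.Agent.Lib.Char.Galois

/-!
# Constituents fixed by `x`

A nontrivial linear character of `M` fixed by `x` has trivial stabiliser in `S` modulo `z`, so it has 32 conjugates
under `S`, two fixed ones being conjugate only if they are equal or inverse to each other.  When `M` has prime
exponent `r ≡ 1 (mod 5)` the Galois conjugates of a character of degree less than 320 with such a constituent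
are at least four.
-/

set_option autoImplicit false
set_option linter.unusedSectionVars false
set_option linter.style.haveILetI false

open scoped ComplexConjugate

namespace Cfsg.Agent.Transfer.UnitaryCore

open Cfsg Subgroup UnitaryFour Cfsg.Agent.Block

universe u

variable {G : Type u} [Group G] [Finite G]

namespace Data

variable {S : Sylow 2 G} {z x : G} {K M M₀ : Subgroup G}

theorem S_mem_T {g : G} (hg : g ∈ (S : Subgroup G)) : g ∈ (S : Subgroup G) ⊔ zpowers x := mem_sup_left hg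

theorem x_conj_S (D : Data S z x K M₀) {w : G} (hw : w ∈ (S : Subgroup G)) : x * w * x⁻¹ ∈ (S : Subgroup G) :=
  (mem_normalizer_iff.1 D.hx w).1 hw

/-- An element of `S` fixing a nontrivial character fixed by `x` is `1` or `z`. -/
theorem fixed_stab (D : Data S z x K M₀) (E : Part S z x K M) {l : ↥M →* ℂˣ} (hl1 : l ≠ 1)
    (hlx : ∀ (y : ↥M) (hy : x * y * x⁻¹ ∈ M), l ⟨x * y * x⁻¹, hy⟩ = l y) {v : G} (hv : v ∈ (S : Subgroup G))
    (hfix : ∀ (y : ↥M) (hy : v * y * v⁻¹ ∈ M), l ⟨v * y * v⁻¹, hy⟩ = l y) : v = 1 ∨ v = z := by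
  have hnS : ∀ {w : G}, w ∈ (S : Subgroup G) → ∀ y : ↥M, w * y * w⁻¹ ∈ M := fun hw y =>
    E.norm _ (mem_sup_left hw) y y.2
  have hxM : ∀ y : ↥M, x * y * x⁻¹ ∈ M := fun y => E.norm x (mem_sup_right (mem_zpowers x)) y y.2
  have hxiM : ∀ y : ↥M, x⁻¹ * y * x⁻¹⁻¹ ∈ M := fun y => E.norm _ (inv_mem (mem_sup_right (mem_zpowers x))) y y.2
  -- the fixing elements
  let Fix : G → Prop := fun w => ∀ (y : ↥M) (hy : w * y * w⁻¹ ∈ M), l ⟨w * y * w⁻¹, hy⟩ = l y
  have hmul : ∀ {a b : G}, a ∈ (S : Subgroup G) → b ∈ (S : Subgroup G) → Fix a → Fix b → Fix (a * b) := by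
    intro a b _ hb hfa hfb y hy
    have h1 := hfa ⟨b * y * b⁻¹, hnS hb y⟩ (by
      show a * (b * (y : G) * b⁻¹) * a⁻¹ ∈ M
      rw [show a * (b * (y : G) * b⁻¹) * a⁻¹ = a * b * y * (a * b)⁻¹ by group]; exact hy)
    rw [← hfb y (hnS hb y), ← h1]
    exact congrArg l (Subtype.ext (by
      show a * b * (y : G) * (a * b)⁻¹ = a * (b * (y : G) * b⁻¹) * a⁻¹
      group))
  have hcen : ∀ {w : G}, w ∈ cen S → Fix w → w = 1 ∨ w = z := fun hw hf =>
    D.cen_fix E hl1 hw (fun y => hnS (cen_le hw) y) fun y => hf y _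
  have hroot : ∀ {w : G}, w ∈ (S : Subgroup G) → Fix w → w ∉ cen S → w * w = z := by
    intro w hw hf hwc
    rcases hcen ⟨_, D.shape.sq ⟨w, hw⟩, rfl⟩ (hmul hw hw hf hf) with e | e
    · exact absurd ((mem_cen hw).2 (D.shape.inv ⟨w, hw⟩ (Subtype.ext e))) hwc
    · exact e
  by_cases hvc : v ∈ cen S
  · exact hcen hvc hfix
  exfalso
  set f := x * v * x⁻¹ with hf
  have hfS : f ∈ (S : Subgroup G) := D.x_conj_S hv
  have hff : Fix f := by
    intro y hy
    let y₁ : ↥M := ⟨x⁻¹ * y * x⁻¹⁻¹, hxiM y⟩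
    have h1 := hfix y₁ (hnS hv y₁)
    have h2 := hlx ⟨v * y₁ * v⁻¹, hnS hv y₁⟩ (hxM _)
    have h3 := hlx y₁ (hxM _)
    rw [show (⟨f * y * f⁻¹, hy⟩ : ↥M) = ⟨x * (v * y₁ * v⁻¹) * x⁻¹, hxM ⟨v * y₁ * v⁻¹, hnS hv y₁⟩⟩ from
      Subtype.ext (by show f * (y : G) * f⁻¹ = x * (v * (x⁻¹ * y * x⁻¹⁻¹) * v⁻¹) * x⁻¹; rw [hf]; group)]
    refine h2.trans (h1.trans (h3.symm.trans (congrArg l (Subtype.ext ?_))))
    show x * (x⁻¹ * (y : G) * x⁻¹⁻¹) * x⁻¹ = y
    group
  have hfc : f ∉ cen S := fun h => by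
    refine hvc ?_
    have h1 : f = v := by
      have h2 := D.xcen f h
      rw [hf, show x * (x * v * x⁻¹) = (x * (x * v * x⁻¹)) from rfl] at h2
      have h3 : x * v * x⁻¹ = x⁻¹ * (x * v * x⁻¹) * x := by rw [mul_assoc x⁻¹, ← h2]; group
      rw [hf, h3]; group
    exact h1 ▸ h
  have hvfc : v * f ∉ cen S := fun h => by
    refine hvc (D.fpf v hv ?_)
    have h1 : f * v ∈ cen S := by
      rw [show f * v = v⁻¹ * (v * f) * v by group, mul_assoc v⁻¹, comm_of_cen h hv, inv_mul_cancel_left]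
      exact h
    have h2 : v * v ∈ cen S := ⟨_, D.shape.sq ⟨v, hv⟩, rfl⟩
    rw [show x * v * x⁻¹ * v⁻¹ = f * v * (v * v)⁻¹ by rw [hf]; group]
    exact mul_mem h1 (inv_mem h2)
  exact D.no_root_triangle hv hfS (hroot hv hfix hvc) (hroot hfS hff hfc)
    (hroot (mul_mem hv hfS) (hmul hv hfS hfix hff) hvfc)

/-- Characters fixed by `x`, no two equal or inverse, give 64 each. -/
theorem card_fixed_le (D : Data S z x K M₀) (E : Part S z x K M) [Fintype ↥M] {χ : G → ℂ} (hχ : IsCharacter G χ)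
    {n : ℕ} (hn : χ 1 = n) (hz : ∀ y ∈ M, χ (z * y) = χ z) (L : Finset (↥M →* ℂˣ))
    (hL1 : ∀ l ∈ L, l ≠ 1) (hLx : ∀ l ∈ L, ∀ (y : ↥M) (hy : x * y * x⁻¹ ∈ M), l ⟨x * y * x⁻¹, hy⟩ = l y)
    (hLmult : ∀ l ∈ L, classInner (fun y : ↥M => χ y) (fun y => (l y : ℂ)) ≠ 0)
    (hLinv : ∀ l ∈ L, ∀ l' ∈ L, (∀ y, l' y = (l y)⁻¹) → False) : 64 * L.card ≤ n := by
  classical
  haveI : Fintype ↥(S : Subgroup G) := Fintype.ofFinite _
  have hresχ : IsCharacter ↥M (fun y : ↥M => χ y) := Char.IsChar.res hχ M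
  obtain ⟨a, ha, hdec⟩ := Char.IsChar.exists_decomp_inner hresχ
  let toIrr : (↥M →* ℂˣ) → IrrCharacter ↥M := fun m => ⟨fun y => (m y : ℂ), Char.isIrr_linear m⟩
  have hinj : Function.Injective toIrr := fun m m' h1 => MonoidHom.ext fun y =>
    Units.ext (congrFun (congrArg Subtype.val h1) y)
  have hnS : ∀ {w : G}, w ∈ (S : Subgroup G) → w ∈ normalizer (M : Set G) := fun {w} hw =>
    mem_normalizer_fintype fun y hy => E.norm w (mem_sup_left hw) y hy
  let tr : ↥(S : Subgroup G) → (↥M →* ℂˣ) → (↥M →* ℂˣ) := fun s l =>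
    l.comp (M.normalizerMonoidHom ⟨s, hnS s.2⟩).toMonoidHom
  have htr : ∀ (s : ↥(S : Subgroup G)) (l : ↥M →* ℂˣ) (y : ↥M),
      tr s l y = l ⟨(s : G) * y * (s : G)⁻¹, E.norm _ (mem_sup_left s.2) y y.2⟩ := fun _ _ _ => rfl
  have hsame : ∀ (s : ↥(S : Subgroup G)) (l : ↥M →* ℂˣ),
      classInner (fun y : ↥M => χ y) (fun y => (tr s l y : ℂ)) =
        classInner (fun y : ↥M => χ y) (fun y => (l y : ℂ)) := fun s l => by
    simp only [classInner]
    refine congrArg _ (Fintype.sum_equiv (M.normalizerMonoidHom ⟨s, hnS s.2⟩).toEquiv _ _ fun y => ?_)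
    exact congrArg (· * _) (Char.IsChar.classFun hχ (y : G) (s : G)).symm
  have hxM : ∀ y : ↥M, x * (y : G) * x⁻¹ ∈ M := fun y => E.norm x (mem_sup_right (mem_zpowers x)) y y.2
  set P := L ×ˢ (Finset.univ : Finset ↥(S : Subgroup G)) with hP
  let f : (↥M →* ℂˣ) × ↥(S : Subgroup G) → (↥M →* ℂˣ) := fun p => tr p.2 p.1
  have hcard : 32 * L.card ≤ (P.image f).card := by
    have h1 := Finset.card_le_mul_card_image (f := f) (s := P) 2 ?_
    · have hPc : P.card = L.card * 64 := by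
        rw [hP, Finset.card_product, Finset.card_univ, ← Nat.card_eq_fintype_card, D.shape.card]
      omega
    intro m hm
    obtain ⟨⟨l, s⟩, hls, rfl⟩ := Finset.mem_image.1 hm
    have hl := (Finset.mem_product.1 hls).1
    have key : ∀ {l' : ↥M →* ℂˣ} {s' : ↥(S : Subgroup G)}, l' ∈ L → f (l', s') = f (l, s) →
        l' = l ∧ ((s' : G) = s ∨ (s' : G) = z * s) := by
      intro l' s' hl' e
      set w : G := (s' : G) * (s : G)⁻¹ with hw
      have hwS : w ∈ (S : Subgroup G) := mul_mem s'.2 (inv_mem s.2)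
      have hwl : ∀ y : ↥M, l' ⟨w * y * w⁻¹, E.norm w (mem_sup_left hwS) y y.2⟩ = l y := fun y => by
        have h1 := DFunLike.congr_fun e ⟨(s : G)⁻¹ * y * (s : G)⁻¹⁻¹,
          E.norm _ (mem_sup_left (inv_mem s.2)) y y.2⟩
        simp only [f, htr] at h1
        refine Eq.trans (congrArg l' (Subtype.ext ?_)) (h1.trans (congrArg l (Subtype.ext ?_)))
        · show w * (y : G) * w⁻¹ = (s' : G) * ((s : G)⁻¹ * y * (s : G)⁻¹⁻¹) * (s' : G)⁻¹
          rw [hw]; group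
        · show (s : G) * ((s : G)⁻¹ * (y : G) * (s : G)⁻¹⁻¹) * (s : G)⁻¹ = y
          group
      have hv : x * w * x⁻¹ * w⁻¹ ∈ (S : Subgroup G) := mul_mem (D.x_conj_S hwS) (inv_mem hwS)
      have hvfix : ∀ (y : ↥M) (hy : (x * w * x⁻¹ * w⁻¹) * y * (x * w * x⁻¹ * w⁻¹)⁻¹ ∈ M),
          l' ⟨(x * w * x⁻¹ * w⁻¹) * y * (x * w * x⁻¹ * w⁻¹)⁻¹, hy⟩ = l' y := by
        intro y hy
        let y₁ : ↥M := ⟨w⁻¹ * y * w⁻¹⁻¹, E.norm _ (mem_sup_left (inv_mem hwS)) y y.2⟩
        let y₂ : ↥M := ⟨x⁻¹ * y₁ * x⁻¹⁻¹, E.norm _ (inv_mem (mem_sup_right (mem_zpowers x))) y₁ y₁.2⟩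
        have h1 := hwl y₂
        have h2 := hLx l' hl' ⟨w * y₂ * w⁻¹, E.norm w (mem_sup_left hwS) y₂ y₂.2⟩ (hxM _)
        have h3 := hLx l hl y₂ (hxM _)
        have h4 := hwl y₁
        refine Eq.trans (congrArg l' (Subtype.ext ?_)) (h2.trans (h1.trans (h3.symm.trans
          (Eq.trans (congrArg l (Subtype.ext ?_)) (h4.symm.trans (congrArg l' (Subtype.ext ?_)))))))
        · show (x * w * x⁻¹ * w⁻¹) * (y : G) * (x * w * x⁻¹ * w⁻¹)⁻¹ =
            x * (w * (x⁻¹ * (w⁻¹ * (y : G) * w⁻¹⁻¹) * x⁻¹⁻¹) * w⁻¹) * x⁻¹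
          group
        · show x * (x⁻¹ * (w⁻¹ * (y : G) * w⁻¹⁻¹) * x⁻¹⁻¹) * x⁻¹ = w⁻¹ * (y : G) * w⁻¹⁻¹
          group
        · show w * (w⁻¹ * (y : G) * w⁻¹⁻¹) * w⁻¹ = y
          group
      have hwc : w ∈ cen S := by
        refine D.fpf w hwS ?_
        rcases D.fixed_stab E (hL1 l' hl') (hLx l' hl') hv hvfix with h | h <;> rw [h]
        exacts [one_mem _, D.hz]
      rcases D.cen_act E (hL1 l' hl') hwc with h | h | h
      · refine ⟨MonoidHom.ext fun y => (congrArg l' (Subtype.ext ?_)).trans (hwl y), Or.inl (mul_inv_eq_one.1 h)⟩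
        show (y : G) = w * y * w⁻¹
        rw [h]; group
      · refine ⟨MonoidHom.ext fun y => (congrArg l' (Subtype.ext ?_)).trans (hwl y),
          Or.inr (mul_inv_eq_iff_eq_mul.1 h)⟩
        show (y : G) = w * y * w⁻¹
        rw [h, (mem_centralizer_singleton_iff.1 (D.K_le (E.le y.2))).symm, mul_inv_cancel_right]
      · refine (hLinv l' hl' l hl fun y => ?_).elim
        rw [← hwl y, ← map_inv]
        exact congrArg l' (Subtype.ext (h y y.2))
    refine le_trans (Finset.card_le_card (t := {(l, s), (l, (⟨z * s, mul_mem (cen_le D.hz) s.2⟩ : ↥(S : Subgroup G)))})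
      fun p hp => ?_) Finset.card_le_two
    obtain ⟨hpP, hpe⟩ := Finset.mem_filter.1 hp
    obtain ⟨l', s'⟩ := p
    obtain ⟨rfl, hs'⟩ := key (Finset.mem_product.1 hpP).1 hpe
    rcases hs' with e | e
    · exact Finset.mem_insert.2 (Or.inl (Prod.ext rfl (Subtype.ext e)))
    · exact Finset.mem_insert.2 (Or.inr (Finset.mem_singleton.2 (Prod.ext rfl (Subtype.ext e))))
  have hge : ∀ m ∈ P.image f, 2 ≤ a (toIrr m) := by
    intro m hm
    obtain ⟨⟨l, s⟩, hls, rfl⟩ := Finset.mem_image.1 hm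
    have hl := (Finset.mem_product.1 hls).1
    have hm0 : a (toIrr (f (l, s))) ≠ 0 := fun h0 => hLmult l hl (by
      rw [← hsame s l]
      exact (ha (toIrr (f (l, s)))).trans (by rw [h0, Nat.cast_zero]))
    have hm1 : f (l, s) ≠ 1 := fun h1 => hL1 l hl (MonoidHom.ext fun y => by
      have h2 := DFunLike.congr_fun h1 ⟨(s : G)⁻¹ * y * (s : G)⁻¹⁻¹, E.norm _ (mem_sup_left (inv_mem s.2)) y y.2⟩
      simp only [f, htr] at h2
      refine (congrArg l (Subtype.ext ?_)).trans h2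
      show (y : G) = (s : G) * ((s : G)⁻¹ * y * (s : G)⁻¹⁻¹) * (s : G)⁻¹
      group)
    exact Nat.le_of_dvd (Nat.pos_of_ne_zero hm0) (D.two_dvd_mult E hχ hm1 hz (ha (toIrr (f (l, s)))))
  have h1 := congrFun hdec 1
  simp only [Finset.sum_apply, Pi.smul_apply, OneMemClass.coe_one, hn, smul_eq_mul] at h1
  rw [Finset.sum_congr rfl fun φ _ => by
    rw [Char.IsIrr.one_of_comm (fun y y' => Subtype.ext (E.comm y y.2 y' y'.2)) φ.2, mul_one],
    ← Nat.cast_sum] at h1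
  rw [Nat.cast_injective h1]
  calc 64 * L.card ≤ (P.image f).card * 2 := by omega
    _ ≤ ∑ m ∈ P.image f, a (toIrr m) := by
      rw [← smul_eq_mul, ← Finset.sum_const]
      exact Finset.sum_le_sum hge
    _ = ∑ φ ∈ (P.image f).image toIrr, a φ := (Finset.sum_image hinj.injOn).symm
    _ ≤ ∑ φ, a φ := Finset.sum_le_univ_sum_of_nonneg fun _ => Nat.zero_le _

/-- The exponents on the roots of unity of order dividing `r` of the automorphisms fixing a character. -/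
theorem galois_index [Fintype G] (χ : IrrCharacter G) {r : ℕ} [Fact r.Prime] {k : ℕ}
    (hk : ∀ F : Finset (IrrCharacter G), (∀ η ∈ F, ∃ σ, PrinCol.galIrr σ χ = η) → F.card ≤ k) :
    ∃ I : Subgroup (ZMod r)ˣ, r - 1 ≤ k * Nat.card ↥I ∧ ∀ t ∈ I, ∃ σ : ℂ ≃+* ℂ,
      PrinCol.galIrr σ χ = χ ∧ ∀ ζ : ℂ, ζ ^ r = 1 → σ ζ = ζ ^ (t : ZMod r).val := by
  classical
  have hr : r.Prime := Fact.out
  let Fx : Set (ZMod r)ˣ := {t | ∃ σ : ℂ ≃+* ℂ,
      PrinCol.galIrr σ χ = χ ∧ ∀ ζ : ℂ, ζ ^ r = 1 → σ ζ = ζ ^ (t : ZMod r).val}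
  have hone : (1 : (ZMod r)ˣ) ∈ Fx := ⟨RingEquiv.refl ℂ, Subtype.ext rfl, fun ζ _ => by
    rw [Units.val_one, ZMod.val_one, pow_one]; rfl⟩
  have hpowmod : ∀ {ζ : ℂ}, ζ ^ r = 1 → ∀ a : ℕ, ζ ^ a = ζ ^ (a % r) := fun {ζ} h a => pow_eq_pow_mod a h
  have hmul : ∀ {t t'}, t ∈ Fx → t' ∈ Fx → t * t' ∈ Fx := by
    rintro t t' ⟨σ, h1, h2⟩ ⟨σ', h1', h2'⟩
    refine ⟨σ'.trans σ, Subtype.ext (funext fun g => ?_), fun ζ hζ => ?_⟩
    · show σ (σ' ((χ : G → ℂ) g)) = (χ : G → ℂ) g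
      rw [show σ' ((χ : G → ℂ) g) = (χ : G → ℂ) g from congrFun (congrArg Subtype.val h1') g]
      exact congrFun (congrArg Subtype.val h1) g
    · show σ (σ' ζ) = _
      rw [h2' ζ hζ, h2 _ (by rw [← pow_mul, mul_comm, pow_mul, hζ, one_pow]), ← pow_mul, hpowmod hζ,
        Units.val_mul, ZMod.val_mul, mul_comm]
  let I : Subgroup (ZMod r)ˣ :=
    { carrier := Fx
      one_mem' := hone
      mul_mem' := hmul
      inv_mem' := fun {t} ht => by
        have hpow : ∀ n : ℕ, t ^ n ∈ Fx := fun n => by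
          induction n with
          | zero => rw [pow_zero]; exact hone
          | succ n ih => rw [pow_succ]; exact hmul ih ht
        have := hpow (orderOf t - 1)
        rwa [show t ^ (orderOf t - 1) = t⁻¹ from (inv_eq_of_mul_eq_one_right (by
          rw [← pow_succ', Nat.sub_add_cancel (orderOf_pos t), pow_orderOf_eq_one])).symm] at this }
  refine ⟨I, ?_, fun t ht => ht⟩
  have hex : ∀ t : (ZMod r)ˣ, ∃ σ : ℂ ≃+* ℂ, ∀ ζ : ℂ, ζ ^ r = 1 → σ ζ = ζ ^ (t : ZMod r).val := fun t =>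
    Char.exists_ringAut_pow r _ hr.pos (ZMod.val_coe_unit_coprime t)
  choose σ hσ using hex
  let Φ : (ZMod r)ˣ → IrrCharacter G := fun t => PrinCol.galIrr (σ t) χ
  have himg := hk ((Finset.univ : Finset (ZMod r)ˣ).image Φ) fun η hη => by
    obtain ⟨t, -, rfl⟩ := Finset.mem_image.1 hη
    exact ⟨_, rfl⟩
  have h1 := Finset.card_le_mul_card_image (f := Φ) (s := (Finset.univ : Finset (ZMod r)ˣ)) (Nat.card ↥I) ?_
  · rw [Finset.card_univ, ZMod.card_units] at h1
    exact h1.trans (by rw [mul_comm]; exact Nat.mul_le_mul_right _ himg)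
  intro η hη
  obtain ⟨t, -, rfl⟩ := Finset.mem_image.1 hη
  have hmem : ∀ {t'}, Φ t' = Φ t → t⁻¹ * t' ∈ Fx := by
    intro t' e
    refine ⟨(σ t').trans (σ t).symm, Subtype.ext (funext fun g => ?_), fun ζ hζ => ?_⟩
    · show (σ t).symm (σ t' ((χ : G → ℂ) g)) = (χ : G → ℂ) g
      rw [show σ t' ((χ : G → ℂ) g) = σ t ((χ : G → ℂ) g) from congrFun (congrArg Subtype.val e) g,
        RingEquiv.symm_apply_apply]
    · show (σ t).symm (σ t' ζ) = _
      rw [RingEquiv.symm_apply_eq, hσ t' ζ hζ, hσ t _ (by rw [← pow_mul, mul_comm, pow_mul, hζ, one_pow]),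
        ← pow_mul, hpowmod hζ ((_ : ℕ) * _), ← ZMod.val_mul, ← Units.val_mul, mul_comm, mul_inv_cancel_left]
  rw [Nat.card_eq_fintype_card, ← Finset.card_univ]
  refine Finset.card_le_card_of_injOn (fun t' => if h : t⁻¹ * t' ∈ Fx then (⟨_, h⟩ : ↥I) else 1)
    (fun _ _ => Finset.mem_coe.2 (Finset.mem_univ _)) ?_
  intro t₁ h₁ t₂ h₂ e
  have e1 := hmem (Finset.mem_filter.1 h₁).2
  have e2 := hmem (Finset.mem_filter.1 h₂).2
  simp only [e1, e2, dite_true] at e
  exact mul_left_cancel (congrArg Subtype.val e)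

/-- Prime exponent `r ≡ 1 (mod 5)`: degree 320, or at least four Galois conjugates. -/
theorem degree_or_conjugates [Fintype G] (D : Data S z x K M₀) (E : Part S z x K M) {r : ℕ} (hr : r.Prime) (hr5 : r % 5 = 1)
    (hexp : ∀ y ∈ M, y ^ r = 1) (χ : IrrCharacter G) (hne : ∃ y ∈ M, (χ : G → ℂ) y ≠ (χ : G → ℂ) 1)
    (hz : ∀ y ∈ M, (χ : G → ℂ) (z * y) = (χ : G → ℂ) z)
    (he : ∀ e ∈ (S : Subgroup G), e * e = z → ∀ y ∈ M, e * y = y * e → (χ : G → ℂ) (e * y) = (χ : G → ℂ) e) :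
    320 ≤ charDegree (χ : G → ℂ) ∨ (2 ≤ charDegree (χ : G → ℂ) ∧
      ∃ F : Finset (IrrCharacter G), 4 ≤ F.card ∧ ∀ η ∈ F, ∃ σ, PrinCol.galIrr σ χ = η) := by
  classical
  haveI : Fintype ↥M := Fintype.ofFinite _
  haveI : Fact r.Prime := ⟨hr⟩
  have hχ : IsCharacter G (χ : G → ℂ) := Char.IsIrr.isCharacter χ.2
  have hn := Block.charDeg_spec' χ
  rcases D.degree_ge_or_fixed E hχ hn hne hz he with h | ⟨l, hl1, hlx, hlm⟩
  · exact Or.inl h
  refine or_iff_not_imp_left.2 fun h320 => ⟨?_, ?_⟩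
  · have := D.card_fixed_le E hχ hn hz {l} (by simpa using hl1) (fun l' hl' => by
      rw [Finset.mem_singleton] at hl'; subst hl'; exact hlx) (by simpa using hlm) (fun l' hl' l'' hl'' h => by
      rw [Finset.mem_singleton] at hl' hl''; subst hl' hl''
      exact hl1 (Part.eq_one_of_inv D E fun y => by rw [map_inv]; exact (h y).symm))
    rw [Finset.card_singleton] at this
    omega
  by_contra hno
  push Not at hno
  obtain ⟨I, hI, hIfix⟩ := galois_index (G := G) χ (r := r) (k := 3) fun F hF => by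
    by_contra hc
    obtain ⟨η, hη, hη'⟩ := hno F (by omega)
    obtain ⟨σ, hσ⟩ := hF η hη
    exact hη' σ hσ
  obtain ⟨y₀, hy₀⟩ : ∃ y, l y ≠ 1 := by
    by_contra hc
    push Not at hc
    exact hl1 (MonoidHom.ext hc)
  have hyr : ∀ y : ↥M, y ^ r = 1 := fun y => Subtype.ext (by rw [Subgroup.coe_pow]; exact hexp y y.2)
  have hord : orderOf (l y₀) = r := orderOf_eq_prime (by rw [← map_pow, hyr, map_one]) hy₀
  let pw : (ZMod r)ˣ → (↥M →* ℂˣ) := fun t => (powMonoidHom (t : ZMod r).val).comp l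
  have hpw : ∀ t y, pw t y = l y ^ (t : ZMod r).val := fun _ _ => rfl
  have hpinj : Function.Injective pw := fun t t' e => by
    have h1 := DFunLike.congr_fun e y₀
    rw [hpw, hpw, pow_eq_pow_iff_modEq, hord] at h1
    refine Units.ext ?_
    rw [← ZMod.natCast_zmod_val (t : ZMod r), ← ZMod.natCast_zmod_val (t' : ZMod r)]
    exact (ZMod.natCast_eq_natCast_iff _ _ r).2 h1
  -- representatives of the classes modulo `±1`
  let sq : ↥I → (ZMod r)ˣ := fun t => (t : (ZMod r)ˣ) * t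
  haveI : Fintype ↥I := Fintype.ofFinite _
  have h5 : 5 ≤ ((Finset.univ : Finset ↥I).image sq).card := by
    have hdvd : Nat.card ↥I ∣ r - 1 := by
      have := I.card_subgroup_dvd_card
      rwa [Nat.card_eq_fintype_card (α := (ZMod r)ˣ), ZMod.card_units] at this
    rcases le_or_gt 10 (Nat.card ↥I) with h10 | h10
    · have h1 := Finset.card_le_mul_card_image (f := sq) (s := (Finset.univ : Finset ↥I)) 2 ?_
      · rw [Finset.card_univ, ← Nat.card_eq_fintype_card] at h1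
        omega
      intro m hm
      obtain ⟨t, -, rfl⟩ := Finset.mem_image.1 hm
      refine le_trans (Finset.card_le_card_of_injOn (fun t' : ↥I => ((t' : (ZMod r)ˣ) : ZMod r))
        (t := {((t : (ZMod r)ˣ) : ZMod r), -((t : (ZMod r)ˣ) : ZMod r)}) (fun t' ht' => ?_)
        (fun a _ b _ e => Subtype.ext (Units.ext e))) Finset.card_le_two
      have h2 : ((t' : (ZMod r)ˣ) : ZMod r) * (t' : (ZMod r)ˣ) = ((t : (ZMod r)ˣ) : ZMod r) * (t : (ZMod r)ˣ) := by
        rw [← Units.val_mul, ← Units.val_mul]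
        exact congrArg _ (Finset.mem_filter.1 ht').2
      simpa using mul_self_eq_mul_self_iff.1 h2
    · have hr11 : r = 11 := by
        have h2 : r < 31 := by omega
        interval_cases r <;> first | omega | (exfalso; revert hr; decide)
      subst hr11
      have hc : Nat.card ↥I = 5 := by
        interval_cases hI' : Nat.card ↥I <;> first | rfl | omega
      rw [Finset.card_image_of_injective, Finset.card_univ, ← Nat.card_eq_fintype_card, hc]
      intro a b e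
      have hab : (a⁻¹ * b : ↥I) ^ 2 = 1 := Subtype.ext (by
        have e' : (a : (ZMod 11)ˣ) * a = b * b := e
        rw [Subgroup.coe_pow, Subgroup.coe_mul, Subgroup.coe_inv, mul_pow, inv_pow, pow_two, pow_two, e',
          inv_mul_cancel]
        rfl)
      have h1 := orderOf_dvd_of_pow_eq_one hab
      have h2 : orderOf (a⁻¹ * b : ↥I) ∣ 5 := hc ▸ orderOf_dvd_natCard _
      exact (inv_mul_eq_one.1 (orderOf_eq_one_iff.1 (Nat.dvd_one.1 ((Nat.dvd_gcd h1 h2).trans (by norm_num)))))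
  have hrep : ∀ m : ↥((Finset.univ : Finset ↥I).image sq), ∃ t : ↥I, sq t = m := fun m => by
    obtain ⟨t, -, ht⟩ := Finset.mem_image.1 m.2
    exact ⟨t, ht⟩
  choose rep hrep using hrep
  set L := (Finset.univ.image fun m => pw (rep m : (ZMod r)ˣ)) with hL
  have hLc : L.card = ((Finset.univ : Finset ↥I).image sq).card := by
    rw [hL, Finset.card_image_of_injective, Finset.card_univ, Fintype.card_coe]
    intro m m' e
    have := congrArg sq (Subtype.ext (hpinj e) : rep m = rep m')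
    rw [hrep, hrep] at this
    exact Subtype.ext this
  refine h320 (le_trans ?_ (D.card_fixed_le E hχ hn hz L ?_ ?_ ?_ ?_))
  · omega
  · intro l' hl' h1
    obtain ⟨m, -, rfl⟩ := Finset.mem_image.1 hl'
    have h2 := DFunLike.congr_fun h1 y₀
    rw [hpw, MonoidHom.one_apply, ← orderOf_dvd_iff_pow_eq_one, hord] at h2
    exact (rep m : (ZMod r)ˣ).ne_zero ((ZMod.val_eq_zero _).1
      (Nat.eq_zero_of_dvd_of_lt h2 (ZMod.val_lt _)))
  · intro l' hl' y hy
    obtain ⟨m, -, rfl⟩ := Finset.mem_image.1 hl'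
    rw [hpw, hpw, hlx y hy]
  · intro l' hl'
    obtain ⟨m, -, rfl⟩ := Finset.mem_image.1 hl'
    obtain ⟨σ, hσχ, hσ⟩ := hIfix _ (rep m).2
    intro h0
    refine hlm (σ.injective ?_)
    rw [map_zero, ← h0]
    simp only [classInner, map_mul, map_inv₀, map_natCast, map_sum]
    refine congrArg _ (Finset.sum_congr rfl fun y _ => ?_)
    rw [show σ ((χ : G → ℂ) (y : G)) = (χ : G → ℂ) (y : G) from congrFun (congrArg Subtype.val hσχ) y, hpw,
      Units.val_pow_eq_pow_val, map_pow, hσ _ (by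
        rw [← map_pow, ← Units.val_pow_eq_pow_val, ← map_pow, hyr, map_one, Units.val_one, map_one])]
  · intro l' hl' l'' hl'' h1
    obtain ⟨m, -, rfl⟩ := Finset.mem_image.1 hl'
    obtain ⟨m', -, rfl⟩ := Finset.mem_image.1 hl''
    have h2 := h1 y₀
    rw [hpw, hpw, eq_inv_iff_mul_eq_one, ← pow_add, ← orderOf_dvd_iff_pow_eq_one, hord,
      ← CharP.cast_eq_zero_iff (ZMod r) r, Nat.cast_add, ZMod.natCast_zmod_val, ZMod.natCast_zmod_val] at h2
    have hneg : ((rep m' : (ZMod r)ˣ) : ZMod r) = -((rep m : (ZMod r)ˣ) : ZMod r) := by linear_combination h2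
    have hsq : sq (rep m') = sq (rep m) := Units.ext (by
      show ((rep m' : (ZMod r)ˣ) : ZMod r) * (rep m' : (ZMod r)ˣ) = ((rep m : (ZMod r)ˣ) : ZMod r) * (rep m : (ZMod r)ˣ)
      rw [hneg, neg_mul_neg])
    rw [hrep, hrep] at hsq
    rw [show m' = m from Subtype.ext hsq] at hneg
    have h22 : (2 : ZMod r) * ((rep m : (ZMod r)ˣ) : ZMod r) = 0 := by linear_combination hneg
    rcases mul_eq_zero.1 h22 with h | h
    · rw [show (2 : ZMod r) = ((2 : ℕ) : ZMod r) by norm_num, CharP.cast_eq_zero_iff (ZMod r) r] at h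
      exact absurd (Nat.le_of_dvd two_pos h) (by have := hr.two_le; omega)
    · exact (rep m : (ZMod r)ˣ).ne_zero h

end Data

end Cfsg.Agent.Transfer.UnitaryCore
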