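import Cfsg.Agent.Lib.Transfer.UnitaryCore.Cols
import Cfsg.Agent.Lib.Transfer.UnitaryCore.FixedDegree

/-!
# An inverted part of prime exponent `r ≡ 1 (mod 5)` is trivial, whatever `x` fixes on it
-/

set_option autoImplicit false
set_option linter.unusedSectionVars false
set_option linter.style.haveILetI false

namespace Cfsg.Agent.Transfer.UnitaryCore

open Cfsg Subgroup UnitaryFour Cfsg.Agent.Block

universe u

variable {G : Type u} [Group G] [Finite G]

namespace Data

variable {S : Sylow 2 G} {z x : G} {K M M₀ : Subgroup G}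

/-- An inverted part of exponent a prime `r ≡ 1 (mod 5)` is trivial; `x` may have fixed points on it. -/
theorem eq_bot_of_prime [IsSimpleGroup G] (D : Data S z x K M₀) (E : Part S z x K M) {r : ℕ} (hr : r.Prime)
    (hr5 : r % 5 = 1) (hexp : ∀ y ∈ M, y ^ r = 1) : M = ⊥ := by
  by_contra hM
  obtain ⟨y₀, hy₀, hy1⟩ : ∃ y ∈ M, y ≠ (1 : G) := by
    by_contra hno
    push Not at hno
    exact hM ((Subgroup.eq_bot_iff_forall M).2 hno)
  cases nonempty_fintype G
  obtain ⟨I, hI⟩ := Cfsg.Agent.Char.exists_isPModular 2 Nat.prime_two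
  refine D.false_of_degree_or hI fun χ hχ hne => D.degree_or_conjugates E hr hr5 hexp χ ?_
    (fun y hy => D.val_core hI hχ (E.le hy)) (fun e he hez y hy hey => D.val_root hI hχ he hez (E.le hy) hey)
  refine ⟨y₀, hy₀, fun h => ?_⟩
  rcases (Cfsg.Agent.Char.charKer_normal (irr_isChar χ)).eq_bot_or_eq_top with hk | hk
  · exact hy1 (Subgroup.mem_bot.1 (hk ▸ (Cfsg.Agent.Char.mem_charKer _).2 h))
  · exact hne (Subtype.ext (Cfsg.Agent.Char.irr_const_eq_one χ.2 fun g =>
      (Cfsg.Agent.Char.mem_charKer (irr_isChar χ)).1 (hk ▸ Subgroup.mem_top g)))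

end Data

end Cfsg.Agent.Transfer.UnitaryCore
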