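import Cfsg.Agent.Lib.Transfer.UnitaryCore.Fuse
import Cfsg.Agent.Lib.Transfer.UnitaryFour.Columns
import Cfsg.Agent.Lib.Block.ElemEight.Column
import Cfsg.Agent.Lib.Block.TwoPrime.Basic

/-!
# The principal block at the two sections of the data
-/

set_option autoImplicit false
set_option linter.unusedSectionVars false
set_option linter.style.haveILetI false

open scoped ComplexConjugate Pointwise ComplexOrder

namespace Cfsg.Agent.Transfer.UnitaryCore

open Cfsg Subgroup UnitaryFour Cfsg.Agent.Block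

universe u

variable {G : Type u} [Group G] [Fintype G]

namespace Data

variable {S : Sylow 2 G} {z x : G} {K M : Subgroup G} (D : Data S z x K M)
include D

theorem core_normal : (K.subgroupOf (centralizer ({z} : Set G))).Normal :=
  ⟨fun n hn g => mem_subgroupOf.2 (D.K_norm g g.2 n (mem_subgroupOf.1 hn))⟩

theorem z_pow : ∃ k : ℕ, orderOf z = 2 ^ k := ⟨1, by rw [D.z_order, pow_one]⟩

theorem card_core : ¬ 2 ∣ Nat.card (K.subgroupOf (centralizer ({z} : Set G))) := by
  rw [Nat.card_congr (subgroupOfEquivOfLe D.K_le).toEquiv]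
  exact Nat.two_dvd_ne_zero.2 (Nat.odd_iff.1 D.K_odd)

theorem odd_of_core {k : G} (hk : k ∈ K) : ¬ 2 ∣ orderOf k :=
  Nat.two_dvd_ne_zero.2 (Nat.odd_iff.1 (D.K_odd.of_dvd_nat (K.orderOf_dvd_natCard hk)))

theorem odd_x (i : ℕ) : ¬ 2 ∣ orderOf (x ^ i) := Nat.two_dvd_ne_zero.2 (Nat.odd_iff.1 (D.odd_order i))

/-- The principal block of the centraliser of `z`. -/
theorem mem_block {I : Ideal AlgInt} (hI : IsPModular 2 I)
    (χ : IrrCharacter ↥(centralizer ({z} : Set G))) :
    χ ∈ principalBlock I ↥(centralizer ({z} : Set G)) ↔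
      ∀ k ∈ K.subgroupOf (centralizer ({z} : Set G)),
        (χ : ↥(centralizer ({z} : Set G)) → ℂ) k = (χ : ↥(centralizer ({z} : Set G)) → ℂ) 1 := by
  classical
  haveI : Fact (Nat.Prime 2) := ⟨Nat.prime_two⟩
  haveI := D.core_normal
  refine ⟨fun h k hk => principal_ker_of_coprime hI D.card_core h hk, fun h => ?_⟩
  obtain ⟨ψ, hψ, he⟩ := Cfsg.Agent.Char.IsIrr.exists_factor_quotient χ.2 (K.subgroupOf (centralizer ({z} : Set G))) h
  set Q := ((S : Subgroup G).subgroupOf (centralizer ({z} : Set G))).map (QuotientGroup.mk' (K.subgroupOf (centralizer ({z} : Set G)))) with hQ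
  haveI : Q.Normal := by
    refine ⟨fun q hq g => ?_⟩
    obtain ⟨c, rfl⟩ := QuotientGroup.mk'_surjective (K.subgroupOf (centralizer ({z} : Set G))) g
    obtain ⟨w, hw, rfl⟩ := Subgroup.mem_map.1 hq
    obtain ⟨k, hk, t, ht, e⟩ := D.cover (c : G) c.2
    refine Subgroup.mem_map.2 ⟨⟨t * (w : G) * t⁻¹, D.S_le_cent (D.conj_mem ht (mem_subgroupOf.1 hw))⟩,
      mem_subgroupOf.2 (D.conj_mem ht (mem_subgroupOf.1 hw)), ?_⟩
    rw [← map_inv, ← map_mul, ← map_mul, QuotientGroup.mk'_apply, QuotientGroup.mk'_apply,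
      QuotientGroup.eq_iff_div_mem, mem_subgroupOf]
    simp only [Subgroup.coe_mul, Subgroup.coe_inv, div_eq_mul_inv, e]
    have hwS : (w : G) ∈ (S : Subgroup G) := mem_subgroupOf.1 hw
    rw [show t * (w : G) * t⁻¹ * (k * t * (w : G) * (k * t)⁻¹)⁻¹ =
      (t * (w : G) * t⁻¹) * k * (t * (w : G) * t⁻¹)⁻¹ * k⁻¹ by group]
    exact mul_mem (D.K_norm _ (D.S_le_cent (D.conj_mem ht hwS)) k hk) (inv_mem hk)
  have hQp : IsPGroup 2 Q := (S.isPGroup'.comap_of_injective (centralizer ({z} : Set G)).subtype (centralizer ({z} : Set G)).subtype_injective).map _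
  have hC : centralizer (Q : Set (↥(centralizer ({z} : Set G)) ⧸ (K.subgroupOf (centralizer ({z} : Set G))))) ≤ Q := by
    intro q hq
    obtain ⟨c, rfl⟩ := QuotientGroup.mk'_surjective (K.subgroupOf (centralizer ({z} : Set G))) q
    obtain ⟨k, hk, w, hw, e⟩ := D.cent_mod c.2 fun w hw => by
      have h1 := mem_centralizer_iff.1 hq _ (Subgroup.mem_map_of_mem (QuotientGroup.mk' (K.subgroupOf (centralizer ({z} : Set G))))
        (show (⟨w, D.S_le_cent hw⟩ : ↥(centralizer ({z} : Set G))) ∈ (S : Subgroup G).subgroupOf (centralizer ({z} : Set G)) from mem_subgroupOf.2 hw))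
      rw [← map_mul, ← map_mul, QuotientGroup.mk'_apply, QuotientGroup.mk'_apply, eq_comm,
        QuotientGroup.eq_iff_div_mem, mem_subgroupOf] at h1
      simp only [Subgroup.coe_mul, Subgroup.coe_inv, div_eq_mul_inv] at h1
      rwa [show (c : G) * w * (c : G)⁻¹ * w⁻¹ = (c : G) * w * (w * (c : G))⁻¹ by group]
    refine Subgroup.mem_map.2 ⟨⟨w, D.S_le_cent hw⟩, mem_subgroupOf.2 hw, ?_⟩
    rw [QuotientGroup.mk'_apply, QuotientGroup.mk'_apply, eq_comm, QuotientGroup.eq_iff_div_mem,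
      mem_subgroupOf]
    simp only [Subgroup.coe_mul, Subgroup.coe_inv, div_eq_mul_inv, e, mul_inv_cancel_right]
    exact hk
  have hmem : (⟨ψ, hψ⟩ : IrrCharacter (↥(centralizer ({z} : Set G)) ⧸ (K.subgroupOf (centralizer ({z} : Set G))))) ∈ principalBlock I (↥(centralizer ({z} : Set G)) ⧸ (K.subgroupOf (centralizer ({z} : Set G)))) :=
    pblock_mem_of_sameBlock hI isPBlock_principalBlock (trivial_mem_principalBlock hI)
      (single_block_of_centralizer hI Q hQp hC (trivialIrr _) ⟨ψ, hψ⟩)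
  have h1 := (PrinCol.infl_mem_iff hI D.card_core (⟨ψ, hψ⟩ : IrrCharacter (↥(centralizer ({z} : Set G)) ⧸ (K.subgroupOf (centralizer ({z} : Set G)))))).2 hmem
  have e : PrinCol.infl (⟨ψ, hψ⟩ : IrrCharacter (↥(centralizer ({z} : Set G)) ⧸ (K.subgroupOf (centralizer ({z} : Set G))))) = χ := Subtype.ext (funext he)
  rwa [e] at h1

/-- A character of the principal block is constant on `z K`. -/
theorem val_core {I : Ideal AlgInt} (hI : IsPModular 2 I) {χ : IrrCharacter G}
    (hχ : χ ∈ principalBlock I G) {y : G} (hy : y ∈ K) : (χ : G → ℂ) (z * y) = (χ : G → ℂ) z := by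
  haveI : Fact (Nat.Prime 2) := ⟨Nat.prime_two⟩
  haveI := D.core_normal
  have := ElemEight.principal_value_congr hI D.z_pow (D.mem_block hI)
    (y := ⟨y, D.K_le hy⟩) (y' := 1) (by rw [← Subgroup.orderOf_coe]; exact D.odd_of_core hy)
    (by rw [orderOf_one]; norm_num) (by
      rw [QuotientGroup.mk_one, QuotientGroup.eq_one_iff]
      exact mem_subgroupOf.2 hy) hχ
  simpa using this

theorem cent_root_le {s : G} (hsz : s * s = z) :
    centralizer ({s} : Set G) ≤ centralizer ({z} : Set G) := fun c hc => by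
  refine mem_cent_of_comm ?_
  have h : Commute c s := mem_centralizer_singleton_iff.1 hc
  rw [← hsz]
  exact (h.mul_right h).eq

theorem core_root_normal {s : G} (hsz : s * s = z) : (K.subgroupOf (centralizer ({s} : Set G))).Normal :=
  ⟨fun n hn g => mem_subgroupOf.2 (D.K_norm g (D.cent_root_le hsz g.2) n (mem_subgroupOf.1 hn))⟩

theorem core_root_card (s : G) : ¬ 2 ∣ Nat.card (K.subgroupOf (centralizer ({s} : Set G))) := fun h =>
  Nat.not_even_iff_odd.2 D.K_odd (even_iff_two_dvd.2 (h.trans (Subgroup.card_comap_dvd_of_injective K _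
    (centralizer ({s} : Set G)).subtype_injective)))

theorem core_root_index {s : G} (hs : s ∈ (S : Subgroup G)) (hsz : s * s = z) :
    (K.subgroupOf (centralizer ({s} : Set G))).index = 2 ^ 4 := by
  set C := centralizer ({s} : Set G)
  set N := K.subgroupOf C
  have h : Nat.card ↥C = Nat.card ↥N * Nat.card ↥((S : Subgroup G) ⊓ C) := by
    rw [← Nat.card_prod]
    refine (Nat.card_congr (Equiv.ofBijective
      (fun p : ↥N × ↥((S : Subgroup G) ⊓ C) => (⟨((p.1 : ↥C) : G) * (p.2 : G), mul_mem (p.1 : ↥C).2 p.2.2.2⟩ : ↥C))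
      ⟨fun p q e => ?_, fun c => ?_⟩)).symm
    · have e' : ((p.1 : ↥C) : G) * p.2 = (q.1 : ↥C) * q.2 := congrArg Subtype.val e
      have h1 : ((q.1 : ↥C) : G)⁻¹ * (p.1 : ↥C) = q.2 * (p.2 : G)⁻¹ := by
        rw [inv_mul_eq_iff_eq_mul, ← mul_assoc, eq_mul_inv_iff_mul_eq, e']
      have h2 := D.core_inf_S (mul_mem (inv_mem (mem_subgroupOf.1 q.1.2)) (mem_subgroupOf.1 p.1.2))
        (h1 ▸ mul_mem q.2.2.1 (inv_mem p.2.2.1))
      exact Prod.ext (Subtype.ext (Subtype.ext (inv_mul_eq_one.1 h2).symm))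
        (Subtype.ext (mul_inv_eq_one.1 (h1.symm.trans h2)).symm)
    · obtain ⟨k, hk, hks, w, hw, hws, e⟩ := D.cent_elt hs hsz (mem_centralizer_singleton_iff.1 c.2)
      exact ⟨(⟨⟨k, mem_centralizer_singleton_iff.2 hks⟩, mem_subgroupOf.2 hk⟩,
        ⟨w, hw, mem_centralizer_singleton_iff.2 hws⟩), Subtype.ext e.symm⟩
  rw [D.card_cent_root hs hsz] at h
  have := N.card_mul_index
  rw [h] at this
  exact Nat.eq_of_mul_eq_mul_left Nat.card_pos this

/-- A character of the principal block is constant on the section of a square root of `z`. -/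
theorem val_root {I : Ideal AlgInt} (hI : IsPModular 2 I) {χ : IrrCharacter G}
    (hχ : χ ∈ principalBlock I G) {e : G} (he : e ∈ (S : Subgroup G)) (hez : e * e = z) {y : G}
    (hy : y ∈ K) (hey : e * y = y * e) : (χ : G → ℂ) (e * y) = (χ : G → ℂ) e := by
  haveI : Fact (Nat.Prime 2) := ⟨Nat.prime_two⟩
  haveI := D.core_root_normal hez
  have hp : ∃ k : ℕ, orderOf e = 2 ^ k := pPow_of_mem S.isPGroup' he
  have hN : ∀ ξ : IrrCharacter ↥(centralizer ({e} : Set G)),
      ξ ∈ principalBlock I ↥(centralizer ({e} : Set G)) ↔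
      ∀ k ∈ K.subgroupOf (centralizer ({e} : Set G)),
        (ξ : ↥(centralizer ({e} : Set G)) → ℂ) k = (ξ : ↥(centralizer ({e} : Set G)) → ℂ) 1 := fun ξ =>
    ⟨fun h k hk => principal_ker_of_coprime hI (D.core_root_card e) h hk,
      fun h => mem_principal_of_ker hI (fun y hy => regular_mem_of_index_pPow (D.core_root_index he hez) hy) h⟩
  have := ElemEight.principal_value_congr hI hp hN
    (y := ⟨y, mem_centralizer_singleton_iff.2 hey.symm⟩) (y' := 1)
    (by rw [← Subgroup.orderOf_coe]; exact D.odd_of_core hy) (by rw [orderOf_one]; norm_num) (by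
      rw [QuotientGroup.mk_one, QuotientGroup.eq_one_iff]
      exact mem_subgroupOf.2 hy) hχ
  simpa using this

theorem col_root {I : Ideal AlgInt} (hI : IsPModular 2 I) {s : G} (hs : s ∈ (S : Subgroup G))
    (hsz : s * s = z) :
    ∑ χ ∈ blk I G, (χ : G → ℂ) s * conj ((χ : G → ℂ) s) = 16 := by
  haveI : Fact (Nat.Prime 2) := ⟨Nat.prime_two⟩
  haveI := D.core_root_normal hsz
  have hi := D.core_root_index hs hsz
  have h1 := ElemEight.principal_column_pair hI (pPow_of_mem S.isPGroup' hs)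
    (y := (1 : ↥(centralizer ({s} : Set G)))) (y' := 1) (by rw [orderOf_one]; norm_num)
    (by rw [orderOf_one]; norm_num)
  rw [principal_column_complement hI (D.core_root_card s) hi (by rw [orderOf_one]; norm_num),
    finsum_blk, ← Subgroup.card_mul_index (K.subgroupOf (centralizer ({s} : Set G))), hi,
    Nat.factorization_mul Nat.card_pos.ne' (by norm_num), Finsupp.add_apply,
    Nat.factorization_eq_zero_of_not_dvd (D.core_root_card s),
    Nat.Prime.factorization_pow Nat.prime_two, Finsupp.single_eq_same, zero_add] at h1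
  simpa using h1

theorem card_quotient_cent (k : ℕ) (H : Subgroup G) (hH : H ≤ (S : Subgroup G))
    (hiff : ∀ w ∈ (S : Subgroup G), w * x ^ k = x ^ k * w ↔ w ∈ H) :
    haveI := D.core_normal
    Nat.card ↥(centralizer ({((⟨x ^ k, pow_mem D.x_cent k⟩ : ↥(centralizer ({z} : Set G))) :
      ↥(centralizer ({z} : Set G)) ⧸ K.subgroupOf (centralizer ({z} : Set G)))} :
      Set (↥(centralizer ({z} : Set G)) ⧸ K.subgroupOf (centralizer ({z} : Set G))))) =
      Nat.card H * 5 := by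
  haveI := D.core_normal
  set C := centralizer ({z} : Set G)
  set N := K.subgroupOf C
  have hT : ∀ {w : G} (i : ℕ), w ∈ (S : Subgroup G) → w * x ^ i ∈ (S : Subgroup G) ⊔ zpowers x :=
    fun i hw => mul_mem (mem_sup_left hw) (mem_sup_right (pow_mem (mem_zpowers x) i))
  have hxC : ∀ i : ℕ, x ^ i ∈ C := fun i => pow_mem D.x_cent i
  have hxk : ∀ i : ℕ, x ^ i * x ^ k = x ^ k * x ^ i := fun i => by rw [← pow_add, ← pow_add, add_comm]
  rw [show Nat.card H * 5 = Nat.card (↥H × Fin 5) by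
    rw [Nat.card_prod, Nat.card_eq_fintype_card (α := Fin 5), Fintype.card_fin]]
  refine (Nat.card_congr (Equiv.ofBijective (fun p : ↥H × Fin 5 =>
    (⟨((⟨(p.1 : G) * x ^ (p.2 : ℕ), D.T_le (hT _ (hH p.1.2))⟩ : ↥C) : ↥C ⧸ N), ?_⟩ : ↥(centralizer _)))
    ⟨fun p q e => ?_, fun c => ?_⟩)).symm
  · rw [mem_centralizer_singleton_iff, ← QuotientGroup.mk_mul, ← QuotientGroup.mk_mul]
    refine congrArg _ (Subtype.ext ?_)
    show (p.1 : G) * x ^ (p.2 : ℕ) * x ^ k = x ^ k * ((p.1 : G) * x ^ (p.2 : ℕ))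
    rw [mul_assoc, hxk, ← mul_assoc, (hiff _ (hH p.1.2)).2 p.1.2, mul_assoc]
  · have e' := congrArg Subtype.val e
    simp only [QuotientGroup.eq] at e'
    rw [mem_subgroupOf] at e'
    simp only [Subgroup.coe_mul, Subgroup.coe_inv] at e'
    obtain ⟨l, hl, h1⟩ := D.core_T e' (mul_mem (inv_mem (hT _ (hH p.1.2))) (hT _ (hH q.1.2)))
    rw [inv_mul_eq_iff_eq_mul, mul_assoc, ← pow_add] at h1
    have h2 : x ^ ((p.2 : ℕ) + l) * (x ^ (q.2 : ℕ))⁻¹ ∈ (S : Subgroup G) := by
      rw [show x ^ ((p.2 : ℕ) + l) * (x ^ (q.2 : ℕ))⁻¹ = (p.1 : G)⁻¹ * q.1 by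
        rw [mul_inv_eq_iff_eq_mul, mul_assoc, h1, inv_mul_cancel_left]]
      exact mul_mem (inv_mem (hH p.1.2)) (hH q.1.2)
    have h3 := mul_inv_eq_one.1 (eq_one_of_odd h2 ((D.odd_order 1).of_dvd_nat (by
      rw [pow_one]
      exact orderOf_dvd_of_mem_zpowers (mul_mem (pow_mem (mem_zpowers x) _) (inv_mem (pow_mem (mem_zpowers x) _))))))
    have h4 : p.2 = q.2 := Fin.ext (by have := D.mod_five h3; omega)
    refine Prod.ext (Subtype.ext ?_) h4
    rw [h3] at h1
    exact (mul_right_cancel h1).symm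
  · obtain ⟨c', hc'⟩ := c
    induction c' using QuotientGroup.induction_on with
    | H c =>
    obtain ⟨k₀, hk₀, t, ht, e⟩ := D.cover (c : G) c.2
    obtain ⟨w, hw, i, rfl⟩ := D.mem_T ht
    have hmk : (c : ↥C ⧸ N) = ((⟨w * x ^ i, D.T_le ht⟩ : ↥C) : ↥C ⧸ N) := by
      rw [QuotientGroup.eq_iff_div_mem, mem_subgroupOf]
      simp only [Subgroup.coe_mul, Subgroup.coe_inv, div_eq_mul_inv, e, mul_inv_cancel_right]
      exact hk₀
    rw [mem_centralizer_singleton_iff, hmk, ← QuotientGroup.mk_mul, ← QuotientGroup.mk_mul,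
      QuotientGroup.eq_iff_div_mem, mem_subgroupOf] at hc'
    simp only [Subgroup.coe_mul, Subgroup.coe_inv, div_eq_mul_inv] at hc'
    have hS' : w * x ^ k * w⁻¹ * (x ^ k)⁻¹ ∈ (S : Subgroup G) := by
      rw [show w * x ^ k * w⁻¹ * (x ^ k)⁻¹ = w * (x ^ k * w⁻¹ * (x ^ k)⁻¹) by group]
      exact mul_mem hw ((mem_normalizer_iff.1 (D.pow_norm k) w⁻¹).1 (inv_mem hw))
    have h1 := D.core_inf_S (k := w * x ^ k * w⁻¹ * (x ^ k)⁻¹) (by
      rw [show w * x ^ k * w⁻¹ * (x ^ k)⁻¹ = w * x ^ i * x ^ k * (x ^ k * (w * x ^ i))⁻¹ by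
        rw [show x ^ k * (w * x ^ i) = x ^ k * w * x ^ i by group, mul_assoc w (x ^ i) (x ^ k), hxk]; group]
      exact hc') hS'
    have hwH : w ∈ H := (hiff w hw).1 (mul_inv_eq_iff_eq_mul.1 (mul_inv_eq_one.1 h1))
    refine ⟨(⟨w, hwH⟩, ⟨i % 5, Nat.mod_lt _ (by norm_num)⟩), Subtype.ext ?_⟩
    show ((⟨w * x ^ (i % 5), _⟩ : ↥C) : ↥C ⧸ N) = (c : ↥C ⧸ N)
    rw [hmk, QuotientGroup.eq, mem_subgroupOf]
    simp only [Subgroup.coe_mul, Subgroup.coe_inv]
    rw [show (w * x ^ (i % 5))⁻¹ * (w * x ^ i) = (x ^ (i % 5))⁻¹ * x ^ i by group]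
    nth_rw 2 [show i = i % 5 + 5 * (i / 5) from (Nat.mod_add_div i 5).symm]
    rw [pow_add, inv_mul_cancel_left]
    exact D.x_pow_core (dvd_mul_right 5 _)

theorem col_z {I : Ideal AlgInt} (hI : IsPModular 2 I) (j k : Fin 5) :
    ∑ χ ∈ blk I G, (χ : G → ℂ) (z * x ^ (j : ℕ)) * conj ((χ : G → ℂ) (z * x ^ (k : ℕ))) =
      if j = k then (if k = 0 then 320 else 20) else 0 := by
  classical
  haveI : Fact (Nat.Prime 2) := ⟨Nat.prime_two⟩
  haveI := D.core_normal
  have hodd : ∀ i : ℕ, ¬ 2 ∣ orderOf (⟨x ^ i, pow_mem D.x_cent i⟩ : ↥(centralizer ({z} : Set G))) :=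
    fun i => by rw [← Subgroup.orderOf_coe]; exact D.odd_x i
  have h := ElemEight.section_column hI D.z_pow (D.mem_block hI) (hodd (j : ℕ)) (hodd (k : ℕ))
  rw [finsum_blk] at h
  simp only at h
  rw [h]
  by_cases hjk : j = k
  · subst hjk
    rw [if_pos (IsConj.refl _), if_pos rfl]
    by_cases hj : j = 0
    · rw [if_pos hj, D.card_quotient_cent _ _ le_rfl (fun w hw => ⟨fun _ => hw, fun _ => by simp [hj]⟩),
        D.card_S]
      norm_num
    · rw [if_neg hj, D.card_quotient_cent _ _ cen_le (fun w hw =>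
        ⟨fun e => D.pow_fpf (i := (j : ℕ)) (fun h5 => hj (Fin.ext (by
            have := j.isLt; obtain ⟨l, hl⟩ := h5; show (j : ℕ) = 0; omega))) hw (by
          rw [← e, mul_inv_cancel_right, mul_inv_cancel]; exact one_mem _),
          fun hc => (D.x_pow_cen hc _).symm⟩), D.card_cen]
      norm_num
  · rw [if_neg hjk, if_neg]
    intro hc
    obtain ⟨c', hc'⟩ := isConj_iff.1 hc
    obtain ⟨c, rfl⟩ := QuotientGroup.mk'_surjective _ c'
    rw [QuotientGroup.mk'_apply, ← QuotientGroup.mk_inv, ← QuotientGroup.mk_mul, ← QuotientGroup.mk_mul,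
      QuotientGroup.eq_iff_div_mem, mem_subgroupOf] at hc'
    simp only [Subgroup.coe_mul, Subgroup.coe_inv, div_eq_mul_inv] at hc'
    exact hjk (Fin.ext (by have := D.pow_unique c.2 hc'; omega))

theorem zx_pPart (i : ℕ) : IsPPart 2 (z * x ^ i) z :=
  ⟨x ^ i, rfl, ((show Commute x z from D.xcen z D.hz).pow_left i).symm, D.z_pow, D.odd_x i⟩

theorem root_order {s : G} (hsz : s * s = z) : orderOf s = 4 := by
  haveI : Fact (Nat.Prime 2) := ⟨Nat.prime_two⟩
  exact orderOf_eq_prime_pow (p := 2) (n := 1) (by rw [pow_one, pow_two, hsz]; exact D.hz1)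
    (show s ^ 2 ^ 2 = 1 by rw [show (2 : ℕ) ^ 2 = 2 + 2 from rfl, pow_add, pow_two, hsz, D.z_sq])

theorem orth_root_zx {I : Ideal AlgInt} (hI : IsPModular 2 I) {s : G} (hs : s ∈ (S : Subgroup G))
    (hsz : s * s = z) (i : ℕ) :
    ∑ χ ∈ blk I G, (χ : G → ℂ) s * conj ((χ : G → ℂ) (z * x ^ i)) = 0 := by
  haveI : Fact (Nat.Prime 2) := ⟨Nat.prime_two⟩
  have h := section_orth hI (isPPart_self_of_pPow (pPow_of_mem S.isPGroup' hs)) (D.zx_pPart i)
    (fun hc => absurd (Invol.orderOf_eq_of_isConj hc) (by rw [D.root_order hsz, D.z_order]; norm_num))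
    (isPBlock_principalBlock (G := G))
  simp only [irr_apply_inv] at h
  rwa [finsum_blk] at h

theorem orth_one_root {I : Ideal AlgInt} (hI : IsPModular 2 I) {s : G} (hs : s ∈ (S : Subgroup G))
    (hsz : s * s = z) :
    ∑ χ ∈ blk I G, (χ : G → ℂ) 1 * conj ((χ : G → ℂ) s) = 0 := by
  haveI : Fact (Nat.Prime 2) := ⟨Nat.prime_two⟩
  have h := section_orth hI (isPPart_self_of_pPow (p := 2) (y := (1 : G)) ⟨0, by simp⟩)
    (isPPart_self_of_pPow (pPow_of_mem S.isPGroup' hs))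
    (fun hc => absurd (Invol.orderOf_eq_of_isConj hc) (by rw [D.root_order hsz, orderOf_one]; norm_num))
    (isPBlock_principalBlock (G := G))
  simp only [irr_apply_inv] at h
  rwa [finsum_blk] at h

theorem orth_one_zx {I : Ideal AlgInt} (hI : IsPModular 2 I) (i : ℕ) :
    ∑ χ ∈ blk I G, (χ : G → ℂ) 1 * conj ((χ : G → ℂ) (z * x ^ i)) = 0 := by
  haveI : Fact (Nat.Prime 2) := ⟨Nat.prime_two⟩
  have h := section_orth hI (isPPart_self_of_pPow (p := 2) (y := (1 : G)) ⟨0, by simp⟩) (D.zx_pPart i)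
    (fun hc => absurd (Invol.orderOf_eq_of_isConj hc) (by rw [D.z_order, orderOf_one]; norm_num))
    (isPBlock_principalBlock (G := G))
  simp only [irr_apply_inv] at h
  rwa [finsum_blk] at h

/-- No two involutions conjugate to `z` have a product in the section of an element of order four. -/
theorem quad_root {I : Ideal AlgInt} (hI : IsPModular 2 I) {s : G} (hs : s ∈ (S : Subgroup G))
    (hsz : s * s = z) :
    ∑ χ ∈ blk I G, (χ : G → ℂ) z ^ 2 / (χ : G → ℂ) 1 * (χ : G → ℂ) s = 0 := by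
  haveI : Fact (Nat.Prime 2) := ⟨Nat.prime_two⟩
  have h := block_involution_product hI (isPBlock_principalBlock (G := G)) D.z_sq
    (pPow_of_mem S.isPGroup' hs) fun g => D.not_inverted hs hsz (by
      rw [show g * z * g⁻¹ * (g * z * g⁻¹) = g * (z * z) * g⁻¹ by group, D.z_sq]; group)
  rwa [finsum_blk] at h

/-- Nor in the section of `z` over a nontrivial power of `x`. -/
theorem quad_x {I : Ideal AlgInt} (hI : IsPModular 2 I) {i : ℕ} (hi : ¬ 5 ∣ i) :
    ∑ χ ∈ blk I G, (χ : G → ℂ) z ^ 2 / (χ : G → ℂ) 1 * (χ : G → ℂ) (z * x ^ i) = 0 := by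
  haveI : Fact (Nat.Prime 2) := ⟨Nat.prime_two⟩
  haveI := D.core_normal
  have h := ElemEight.involution_section hI D.z_pow D.z_sq (D.mem_block hI)
    (y := ⟨x ^ i, pow_mem D.x_cent i⟩) (by rw [← Subgroup.orderOf_coe]; exact D.odd_x i) ?_
  · rwa [finsum_blk] at h
  intro hc
  obtain ⟨c', hc'⟩ := isConj_iff.1 hc
  obtain ⟨c, rfl⟩ := QuotientGroup.mk'_surjective _ c'
  rw [QuotientGroup.mk'_apply, ← QuotientGroup.mk_inv, ← QuotientGroup.mk_inv, ← QuotientGroup.mk_mul,
    ← QuotientGroup.mk_mul, QuotientGroup.eq_iff_div_mem, mem_subgroupOf] at hc'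
  simp only [Subgroup.coe_mul, Subgroup.coe_inv, div_eq_mul_inv] at hc'
  have hc4 : (c : G) * x ^ i * (c : G)⁻¹ * (x ^ (4 * i))⁻¹ ∈ K := by
    rw [inv_inv] at hc'
    rw [show (c : G) * x ^ i * (c : G)⁻¹ * (x ^ (4 * i))⁻¹ =
      (c : G) * x ^ i * (c : G)⁻¹ * x ^ i * (x ^ (5 * i))⁻¹ by
        rw [show 5 * i = 4 * i + i by ring, pow_add]; group]
    exact mul_mem hc' (inv_mem (D.x_pow_core (dvd_mul_right 5 i)))
  have h1 := D.pow_unique c.2 hc4
  refine hi ?_
  omega

/-- On the section of `z` the exponent of `x` counts modulo five only. -/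
theorem val_mod {I : Ideal AlgInt} (hI : IsPModular 2 I) {χ : IrrCharacter G} (hχ : χ ∈ principalBlock I G)
    (i : ℕ) : (χ : G → ℂ) (z * x ^ i) = (χ : G → ℂ) (z * x ^ (i % 5)) := by
  haveI : Fact (Nat.Prime 2) := ⟨Nat.prime_two⟩
  haveI := D.core_normal
  refine ElemEight.principal_value_congr hI D.z_pow (D.mem_block hI)
    (y := ⟨x ^ i, pow_mem D.x_cent i⟩) (y' := ⟨x ^ (i % 5), pow_mem D.x_cent _⟩)
    (by rw [← Subgroup.orderOf_coe]; exact D.odd_x i) (by rw [← Subgroup.orderOf_coe]; exact D.odd_x _) ?_ hχ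
  rw [eq_comm, QuotientGroup.eq, mem_subgroupOf]
  simp only [Subgroup.coe_mul, Subgroup.coe_inv]
  nth_rw 2 [show i = i % 5 + 5 * (i / 5) from (Nat.mod_add_div i 5).symm]
  rw [pow_add, inv_mul_cancel_left]
  exact D.x_pow_core (dvd_mul_right 5 _)

/-- The remaining structure constant is not negative. -/
theorem quad_nonneg {I : Ideal AlgInt} (hI : IsPModular 2 I) :
    0 ≤ ∑ χ ∈ blk I G, (χ : G → ℂ) z ^ 2 / (χ : G → ℂ) 1 * (χ : G → ℂ) z := by
  classical
  haveI : Fact (Nat.Prime 2) := ⟨Nat.prime_two⟩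
  haveI := D.core_normal
  obtain ⟨k, hk⟩ := D.z_pow
  set C := centralizer ({z} : Set G) with hC
  set A := Finset.univ.filter (fun ξ : IrrCharacter ↥C =>
    IsInducedBlock I C (blockOf I (ξ : ↥C → ℂ)) (principalBlock I G)) with hA
  have hAeq : A = Finset.univ.filter (fun ξ : IrrCharacter ↥C => ξ ∈ principalBlock I ↥C) := by
    ext ξ
    simp only [A, Finset.mem_filter, Finset.mem_univ, true_and]
    have hP : IsPGroup 2 (Subgroup.zpowers z) :=
      IsPGroup.of_card (n := k) (by rw [Nat.card_zpowers, hk])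
    have hdef : InducedBlockDefined I C (blockOf I (ξ : ↥C → ℂ)) := by
      refine inducedBlockDefined_brauer hI hP (Subgroup.zpowers_le.2 (centralizer_self_mem z)) ?_ ?_
        (isPBlock_blockOf ξ)
      · exact Subgroup.centralizer_le (Set.singleton_subset_iff.2 (Subgroup.mem_zpowers z))
      · refine le_trans ?_ (Subgroup.centralizer_le_normalizer _)
        intro c hc
        rw [Subgroup.mem_centralizer_iff]
        intro w hw
        obtain ⟨i, rfl⟩ := Subgroup.mem_zpowers_iff.1 hw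
        exact ((show Commute c z from Subgroup.mem_centralizer_singleton_iff.1 hc).zpow_right i).eq.symm
    rw [principal_third_main hI hdef]
    exact ⟨fun h => h ▸ mem_blockOf_self hI ξ,
      fun h => (pblock_eq_blockOf hI isPBlock_principalBlock h).symm⟩
  set Φ := fun c : ↥C => ∑ ξ ∈ A, conj ((ξ : ↥C → ℂ) c) * (ξ : ↥C → ℂ) 1
  have hΦ : ∀ c, 0 ≤ Φ c := by
    intro c
    have e : Φ c = ∑ᶠ ξ ∈ principalBlock I ↥C, (ξ : ↥C → ℂ) 1 * conj ((ξ : ↥C → ℂ) c) := by
      rw [finsum_mem_block]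
      simp only [Φ, hAeq]
      exact Finset.sum_congr rfl fun ξ _ => mul_comm _ _
    rw [e, ElemEight.principal_sum_quotient (D.mem_block hI)]
    split_ifs
    · exact Nat.cast_nonneg _
    · exact le_rfl
  have hval : ∀ χ : IrrCharacter G,
      (Nat.card ↥C : ℂ)⁻¹ * ∑ c : ↥C, (χ : G → ℂ) (z * (c : G)) * Φ c =
        if χ ∈ principalBlock I G then (χ : G → ℂ) z else 0 := by
    intro χ
    have h0 := value_eq_sum_inducing hI ⟨k, hk⟩ (isPBlock_principalBlock (G := G))
      (y := (1 : ↥C)) (by rw [orderOf_one]; norm_num) χ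
    simp only [OneMemClass.coe_one, mul_one] at h0
    rw [← h0]
    simp only [Φ, classInner, Finset.mul_sum, Finset.sum_mul]
    rw [Finset.sum_comm]
    exact Finset.sum_congr rfl fun ξ _ => Finset.sum_congr rfl fun c _ => by ring
  rw [← finsum_blk, finsum_mem_block, Finset.sum_filter]
  calc (0 : ℂ) ≤ (Nat.card ↥C : ℂ)⁻¹ * ∑ c : ↥C, Φ c *
        ((Nat.card G : ℂ)⁻¹ * ∑ g : G, ∑ χ : IrrCharacter G,
          (χ : G → ℂ) (z * (g * z * g⁻¹)) * conj ((χ : G → ℂ) (z * (c : G))⁻¹)) := by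
        refine mul_nonneg (inv_nonneg.2 (Nat.cast_nonneg _)) (Finset.sum_nonneg fun c _ => ?_)
        refine mul_nonneg (hΦ c) (mul_nonneg (inv_nonneg.2 (Nat.cast_nonneg _)) (Finset.sum_nonneg fun g _ => ?_))
        rw [Cfsg.Agent.Char.sum_irr_mul_conj]
        split_ifs
        · exact Nat.cast_nonneg _
        · exact le_rfl
    _ = ∑ χ : IrrCharacter G, (χ : G → ℂ) z ^ 2 / (χ : G → ℂ) 1 *
          ((Nat.card ↥C : ℂ)⁻¹ * ∑ c : ↥C, (χ : G → ℂ) (z * (c : G)) * Φ c) := by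
        have hϑ : ∀ u : G, (Nat.card G : ℂ)⁻¹ * ∑ g : G, ∑ χ : IrrCharacter G,
            (χ : G → ℂ) (z * (g * z * g⁻¹)) * conj ((χ : G → ℂ) u⁻¹) =
            ∑ χ : IrrCharacter G, (χ : G → ℂ) z ^ 2 / (χ : G → ℂ) 1 * (χ : G → ℂ) u := by
          intro u
          rw [Finset.sum_comm, Finset.mul_sum]
          refine Finset.sum_congr rfl fun χ _ => ?_
          rw [← Finset.sum_mul, sum_mul_conj, irr_apply_inv, Complex.conj_conj]
          field_simp [Nat.card_pos.ne']
        simp only [hϑ, Finset.mul_sum]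
        rw [Finset.sum_comm]
        exact Finset.sum_congr rfl fun c _ => Finset.sum_congr rfl fun χ _ => by ring
    _ = _ := Finset.sum_congr rfl fun χ _ => by rw [hval χ, mul_ite, mul_zero]

end Data

end Cfsg.Agent.Transfer.UnitaryCore
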