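import Cfsg.Agent.Lib.Transfer.UnitaryCore.Block

/-!
# The integral column `R = 4 d₀ + d - v` and the end of the counting
-/

set_option autoImplicit false
set_option linter.unusedSectionVars false
set_option linter.style.haveILetI false

open scoped ComplexConjugate Pointwise ComplexOrder

namespace Cfsg.Agent.Transfer.UnitaryCore

open Cfsg Subgroup UnitaryFour Cfsg.Agent.Block

universe u

variable {G : Type u} [Group G] [Fintype G]

/-- A periodic sum. -/
theorem sum_range_periodic (f : ℕ → ℂ) (hf : ∀ i, f (i + 5) = f i) (m : ℕ) :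
    ∑ i ∈ Finset.range (5 * m), f i = m * ∑ i ∈ Finset.range 5, f i := by
  induction m with
  | zero => simp
  | succ m ih =>
    have hper : ∀ j, f (5 * m + j) = f j := fun j => by
      clear ih
      induction m with
      | zero => simp
      | succ m ih' => rw [show 5 * (m + 1) + j = 5 * m + j + 5 by ring, hf, ih']
    rw [show 5 * (m + 1) = 5 * m + 5 by ring, Finset.sum_range_add, ih, Finset.sum_congr rfl fun j _ => hper j]
    push_cast
    ring

/-- The odd powers of an element of order dividing `2 n`, `n` odd, sum to `n` times an integer. -/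
theorem odd_pow_sum (χ : IrrCharacter G) {g : G} {n : ℕ} (hn : Odd n) (hg : g ^ (2 * n) = 1) :
    ∃ e : ℤ, ∑ i ∈ Finset.range n, (χ : G → ℂ) (g ^ (2 * i + 1)) = (n : ℂ) * (e : ℂ) := by
  classical
  obtain ⟨m, ρ, hρ⟩ := irr_isChar χ
  obtain ⟨b, c, -, hc, hk⟩ := Cfsg.Agent.Char.exists_rep_eigenbasis ρ g
  refine ⟨∑ i, if c i = 1 then (1 : ℤ) else if c i = -1 then -1 else 0, ?_⟩
  rw [← hρ, Finset.sum_congr rfl fun j _ => hk (2 * j + 1), Finset.sum_comm]
  push_cast
  rw [Finset.mul_sum]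
  refine Finset.sum_congr rfl fun i _ => ?_
  have h10 : (c i ^ 2) ^ n = 1 := by
    rw [← pow_mul]
    obtain ⟨l, hl⟩ := orderOf_dvd_of_pow_eq_one hg
    rw [hl, pow_mul, hc i, one_pow]
  rw [Finset.sum_congr rfl fun j _ => show c i ^ (2 * j + 1) = c i * (c i ^ 2) ^ j by rw [pow_succ', pow_mul],
    ← Finset.mul_sum]
  split_ifs with h1 h2
  · rw [h1]; simp
  · rw [h2]; simp
  · have h := geom_sum_mul (c i ^ 2) n
    rw [h10, sub_self, mul_eq_zero] at h
    rcases h with h | h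
    · rw [h, mul_zero, mul_zero]
    · rcases sq_eq_one_iff.1 (sub_eq_zero.1 h) with h'' | h''
      · exact absurd h'' h1
      · exact absurd h'' h2

/-- The value at an element of order four conjugate to its inverse is an integer. -/
theorem pow_four_int (χ : IrrCharacter G) {g : G} (hg : g ^ 4 = 1) :
    ∃ n : ℤ, (χ : G → ℂ) g + (χ : G → ℂ) (g ^ 3) = 2 * (n : ℂ) := by
  classical
  obtain ⟨m, ρ, hρ⟩ := irr_isChar χ
  obtain ⟨b, c, -, hc, hk⟩ := Cfsg.Agent.Char.exists_rep_eigenbasis ρ g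
  refine ⟨∑ i, if c i = 1 then (1 : ℤ) else if c i = -1 then -1 else 0, ?_⟩
  have h1 := hk 1
  rw [pow_one] at h1
  rw [← hρ, h1, hk 3, ← Finset.sum_add_distrib]
  push_cast
  rw [Finset.mul_sum]
  refine Finset.sum_congr rfl fun i _ => ?_
  have h4 : c i ^ 4 = 1 := by
    obtain ⟨l, hl⟩ := orderOf_dvd_of_pow_eq_one hg
    rw [hl, pow_mul, hc i, one_pow]
  rw [pow_one]
  split_ifs with h1 h2
  · rw [h1]; norm_num
  · rw [h2]; norm_num
  · have h : (c i ^ 2 - 1) * (c i ^ 2 + 1) = 0 := by linear_combination h4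
    rcases mul_eq_zero.1 h with h' | h'
    · rcases sq_eq_one_iff.1 (sub_eq_zero.1 h') with h'' | h''
      · exact absurd h'' h1
      · exact absurd h'' h2
    · linear_combination c i * h'

namespace Data

variable {S : Sylow 2 G} {z x : G} {K M : Subgroup G} (D : Data S z x K M)
include D

/-- The integer values at the two sections. -/
theorem exists_vals {I : Ideal AlgInt} (hI : IsPModular 2 I) {s : G} (hs : s ∈ (S : Subgroup G))
    (hsz : s * s = z) (χ : IrrCharacter G) :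
    ∃ v d e : ℤ, (χ : G → ℂ) z = v ∧ (χ : G → ℂ) s = d ∧
      (χ ∈ principalBlock I G → ∑ i : Fin 5, (χ : G → ℂ) (z * x ^ (i : ℕ)) = 5 * (e : ℂ)) := by
  obtain ⟨v, hv⟩ := char_involution_int χ D.z_sq
  have hzx : Commute z x := (D.xcen z D.hz).symm
  have hz2 : z ^ 2 = 1 := by rw [pow_two, D.z_sq]
  obtain ⟨k, hk⟩ := D.exists_order
  obtain ⟨e, he⟩ := odd_pow_sum χ (n := 5 ^ (k + 1)) (Odd.pow (by decide)) (g := z * x) (by
    rw [hzx.mul_pow, pow_mul, hz2, one_pow, one_mul, mul_comm, pow_mul, ← hk, pow_orderOf_eq_one, one_pow])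
  have hodd : ∀ i : ℕ, (z * x) ^ (2 * i + 1) = z * x ^ (2 * i + 1) := fun i => by
    rw [hzx.mul_pow, pow_succ, pow_mul, hz2, one_pow, one_mul]
  have hblock : χ ∈ principalBlock I G → ∑ i : Fin 5, (χ : G → ℂ) (z * x ^ (i : ℕ)) = 5 * (e : ℂ) := by
    intro hχ
    rw [pow_succ', sum_range_periodic (fun i => (χ : G → ℂ) ((z * x) ^ (2 * i + 1))) (fun i => by
      rw [hodd, hodd, D.val_mod hI hχ, show (2 * (i + 5) + 1) % 5 = (2 * i + 1) % 5 by omega,
        ← D.val_mod hI hχ]) (5 ^ k)] at he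
    simp only [hodd, Finset.sum_range_succ, Finset.sum_range_zero] at he
    rw [D.val_mod hI hχ (2 * 0 + 1), D.val_mod hI hχ (2 * 1 + 1), D.val_mod hI hχ (2 * 2 + 1),
      D.val_mod hI hχ (2 * 3 + 1), D.val_mod hI hχ (2 * 4 + 1)] at he
    norm_num at he
    simp only [Fin.sum_univ_five, Fin.val_zero, Fin.val_one, Fin.val_two,
      show ((3 : Fin 5) : ℕ) = 3 from rfl, show ((4 : Fin 5) : ℕ) = 4 from rfl, pow_zero, pow_one, mul_one]
    refine mul_left_cancel₀ (pow_ne_zero k (show (5 : ℂ) ≠ 0 by norm_num)) ?_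
    linear_combination he
  obtain ⟨d, hd⟩ := pow_four_int χ (g := s) (by
    rw [show (4 : ℕ) = 2 + 2 from rfl, pow_add, pow_two, hsz, D.z_sq])
  have h3 : s ^ 3 * s ^ 3 = z := by
    rw [← pow_add, show 3 + 3 = 2 + 2 + 2 from rfl, pow_add, pow_add, pow_two, hsz, D.z_sq, one_mul]
  rw [← Cfsg.Agent.Char.IsClass.eq_of_isConj (irr_classFun χ) (D.isConj_root hs hsz (pow_mem hs 3) h3)] at hd
  exact ⟨v, d, e, hv, by linear_combination hd / 2, hblock⟩

/-- Restriction to the Sylow subgroup. -/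
theorem congr_four {s : G} (hs : s ∈ (S : Subgroup G)) (hsz : s * s = z) (χ : IrrCharacter G) {v d : ℤ}
    (hv : (χ : G → ℂ) z = v) (hd : (χ : G → ℂ) s = d) : (4 : ℤ) ∣ d - v := by
  classical
  let res : ↥(S : Subgroup G) → ℂ := fun y => (χ : G → ℂ) y
  have hres : IsCharacter ↥(S : Subgroup G) res := Char.IsChar.res (irr_isChar χ) _
  have hval : ∀ w ∈ cen S, w ≠ 1 → (χ : G → ℂ) w = v := fun w hw hw1 => by
    rw [← hv, Char.IsClass.eq_of_isConj (irr_classFun χ) (D.isConj_cen hw hw1)]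
  have hcs : censum res = (charDegree (χ : G → ℂ) : ℂ) + 3 * (v : ℂ) := by
    simp only [censum]
    rw [← Finset.add_sum_erase _ _ (Finset.mem_filter.2 ⟨Finset.mem_univ (1 : ↥(S : Subgroup G)), one_mem _⟩),
      show res 1 = (charDegree (χ : G → ℂ) : ℂ) from (charDeg_spec' χ),
      Finset.sum_congr rfl fun (w : ↥(S : Subgroup G)) hw => hval (w : G)
        ((mem_cen w.2).2 (Finset.mem_filter.1 (Finset.mem_erase.1 hw).2).2)
        (fun e => (Finset.mem_erase.1 hw).1 (Subtype.ext e)),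
      Finset.sum_const, Finset.card_erase_of_mem (Finset.mem_filter.2 ⟨Finset.mem_univ (1 : ↥(S : Subgroup G)), one_mem _⟩),
      center_card' D.shape, nsmul_eq_mul]
    norm_num
  obtain ⟨n, hn⟩ := exists_rest D.shape hres
  rw [show res 1 = (charDegree (χ : G → ℂ) : ℂ) from (charDeg_spec' χ), hcs] at hn
  obtain ⟨μ, hμ⟩ := Char.IsChar.classInner_nat hres
    (Char.IsChar.one (G := ↥(S : Subgroup G)))
  simp only [classInner, map_one, mul_one, Pi.one_apply] at hμ
  rw [← Finset.sum_filter_add_sum_filter_not Finset.univ (fun y : ↥(S : Subgroup G) => y ∈ center ↥(S : Subgroup G)) res,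
    show ∑ y ∈ Finset.univ.filter (fun y : ↥(S : Subgroup G) => y ∈ center ↥(S : Subgroup G)), res y = censum res by
      simp only [censum],
    hcs, Finset.sum_congr rfl (s₂ := Finset.univ.filter (fun y : ↥(S : Subgroup G) => ¬ y ∈ center ↥(S : Subgroup G)))
      (g := fun _ => (d : ℂ)) fun (y : ↥(S : Subgroup G)) hy => by
        show (χ : G → ℂ) y = d
        rw [← hd]
        exact (Char.IsClass.eq_of_isConj (irr_classFun χ) (D.isConj_noncen hs hsz y.2
          fun hc => (Finset.mem_filter.1 hy).2 ((mem_cen y.2).1 hc))).symm,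
    Finset.sum_const, D.card_S, Finset.filter_not, Finset.card_sdiff_of_subset (Finset.filter_subset _ _), center_card' D.shape,
    Finset.card_univ, ← Nat.card_eq_fintype_card, D.card_S] at hμ
  have e1 : ((charDegree (χ : G → ℂ) : ℤ) + 3 * v + 60 * d : ℤ) = ((64 * μ : ℤ) : ℤ) := by
    have : (((charDegree (χ : G → ℂ) : ℤ) + 3 * v + 60 * d : ℤ) : ℂ) = ((64 * μ : ℤ) : ℂ) := by
      push_cast
      simp only [nsmul_eq_mul] at hμ
      push_cast at hμ
      linear_combination 64 * hμ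
    exact_mod_cast this
  have e2 : (3 * ((charDegree (χ : G → ℂ) : ℤ) - v) : ℤ) = 16 * n := by
    have : ((3 * ((charDegree (χ : G → ℂ) : ℤ) - v) : ℤ) : ℂ) = ((16 * n : ℤ) : ℂ) := by
      push_cast
      linear_combination 4 * hn
    exact_mod_cast this
  omega

/-- The counting: some non-trivial character of the principal block has degree less than 320 and fewer than four
Galois conjugates. -/
theorem false_of_degree_or {I : Ideal AlgInt} (hI : IsPModular 2 I)
    (hdeg : ∀ χ ∈ principalBlock I G, χ ≠ trivialIrr G → 320 ≤ charDegree (χ : G → ℂ) ∨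
      (2 ≤ charDegree (χ : G → ℂ) ∧
        ∃ F : Finset (IrrCharacter G), 4 ≤ F.card ∧ ∀ η ∈ F, ∃ σ, PrinCol.galIrr σ χ = η)) : False := by
  classical
  haveI : Fact (Nat.Prime 2) := ⟨Nat.prime_two⟩
  obtain ⟨s, hs, hsz⟩ := D.exists_root
  choose v d e hv hd he' using D.exists_vals hI hs hsz
  have hr : ∀ χ, ∃ r : ℤ, 4 * e χ + d χ - v χ = 4 * r := fun χ => by
    obtain ⟨q, hq⟩ := D.congr_four hs hsz χ (hv χ) (hd χ)
    exact ⟨e χ + q, by omega⟩
  choose r hr using hr
  set B := blk I G with hB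
  have hmemB : ∀ χ ∈ B, χ ∈ principalBlock I G := fun χ hχ => by simpa [hB, blk] using hχ
  have he : ∀ {χ}, χ ∈ B → ∑ i : Fin 5, (χ : G → ℂ) (z * x ^ (i : ℕ)) = 5 * (e χ : ℂ) := fun hχ => he' _ (hmemB _ hχ)
  set N : IrrCharacter G → ℕ := fun χ => charDegree (χ : G → ℂ)
  have hN : ∀ χ : IrrCharacter G, (χ : G → ℂ) 1 = (N χ : ℂ) := fun χ => charDeg_spec' χ
  -- the Gram matrix of the columns
  have hdd : ∑ χ ∈ B, (d χ : ℂ) * d χ = 16 := by
    rw [← D.col_root hI hs hsz]
    exact Finset.sum_congr rfl fun χ _ => by rw [hd, map_intCast]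
  have hzz := D.col_z hI (0 : Fin 5) (0 : Fin 5)
  simp only [Fin.val_zero, pow_zero, mul_one, hv, map_intCast, if_true] at hzz
  have hsum : ∀ f : Fin 5 → IrrCharacter G → ℂ, ∀ g : IrrCharacter G → ℂ,
      ∑ i, ∑ χ ∈ B, f i χ * g χ = ∑ χ ∈ B, (∑ i, f i χ) * g χ := fun f g => by
    rw [Finset.sum_comm]
    exact Finset.sum_congr rfl fun χ _ => (Finset.sum_mul _ _ _).symm
  have hze : ∑ χ ∈ B, (v χ : ℂ) * (e χ : ℂ) = 64 := by
    have h : ∑ i : Fin 5, ∑ χ ∈ B, (χ : G → ℂ) (z * x ^ (i : ℕ)) * conj ((χ : G → ℂ) (z * x ^ ((0 : Fin 5) : ℕ))) = 320 := by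
      rw [Finset.sum_congr rfl fun i _ => D.col_z hI i 0]
      simp
    rw [hsum, Finset.sum_congr rfl fun χ hχ => congrArg (· * _) (he hχ)] at h
    simp only [Fin.val_zero, pow_zero, mul_one, hv, map_intCast] at h
    rw [← mul_right_inj' (show (5 : ℂ) ≠ 0 by norm_num), Finset.mul_sum]
    rw [Finset.sum_congr rfl fun χ _ => show 5 * ((v χ : ℂ) * (e χ : ℂ)) = 5 * (e χ : ℂ) * v χ by ring, h]
    norm_num
  have hee : ∑ χ ∈ B, (e χ : ℂ) * (e χ : ℂ) = 16 := by
    have h : ∑ j : Fin 5, ∑ i : Fin 5, ∑ χ ∈ B, (χ : G → ℂ) (z * x ^ (i : ℕ)) * conj ((χ : G → ℂ) (z * x ^ (j : ℕ))) = 400 := by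
      rw [Finset.sum_congr rfl fun j _ => Finset.sum_congr rfl fun i _ => D.col_z hI i j]
      simp [Fin.sum_univ_five]
      norm_num
    simp only [hsum] at h
    rw [Finset.sum_comm, Finset.sum_congr rfl fun χ _ => (Finset.mul_sum _ _ _).symm] at h
    simp only [← map_sum] at h
    rw [Finset.sum_congr rfl fun χ hχ => congrArg₂ (fun a b => a * conj b) (he hχ) (he hχ)] at h
    simp only [map_mul, map_ofNat, map_intCast] at h
    rw [← mul_right_inj' (show (25 : ℂ) ≠ 0 by norm_num), Finset.mul_sum,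
      Finset.sum_congr rfl fun χ _ => show 25 * ((e χ : ℂ) * (e χ : ℂ)) = 5 * (e χ : ℂ) * (5 * (e χ : ℂ)) by ring, h]
    norm_num
  have hde : ∑ χ ∈ B, (d χ : ℂ) * (e χ : ℂ) = 0 := by
    have h : ∑ i : Fin 5, ∑ χ ∈ B, (χ : G → ℂ) s * conj ((χ : G → ℂ) (z * x ^ (i : ℕ))) = 0 :=
      Finset.sum_eq_zero fun i _ => D.orth_root_zx hI hs hsz _
    rw [Finset.sum_comm, Finset.sum_congr rfl fun χ _ => (Finset.mul_sum _ _ _).symm] at h
    simp only [← map_sum, hd] at h
    rw [Finset.sum_congr rfl fun χ hχ => congrArg (fun b => (d χ : ℂ) * conj b) (he hχ)] at h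
    simp only [map_mul, map_ofNat, map_intCast] at h
    rw [← mul_right_inj' (show (5 : ℂ) ≠ 0 by norm_num), Finset.mul_sum,
      Finset.sum_congr rfl fun χ _ => show 5 * ((d χ : ℂ) * (e χ : ℂ)) = (d χ : ℂ) * (5 * (e χ : ℂ)) by ring, h]
    norm_num
  have hdv : ∑ χ ∈ B, (d χ : ℂ) * (v χ : ℂ) = 0 := by
    rw [← D.orth_root_zx hI hs hsz 0]
    exact Finset.sum_congr rfl fun χ _ => by rw [pow_zero, mul_one, hd, hv, map_intCast]
  have hrr : ∑ χ ∈ B, r χ * r χ = 5 := by
    have h : ((∑ χ ∈ B, 16 * (r χ * r χ) : ℤ) : ℂ) = ((80 : ℤ) : ℂ) := by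
      rw [Finset.sum_congr rfl fun χ _ => show 16 * (r χ * r χ) = 16 * (e χ * e χ) + d χ * d χ + v χ * v χ +
        8 * (d χ * e χ) - 8 * (v χ * e χ) - 2 * (d χ * v χ) by
          linear_combination (-4 * r χ - (4 * e χ + d χ - v χ)) * hr χ]
      simp only [Finset.sum_add_distrib, Finset.sum_sub_distrib, ← Finset.mul_sum]
      push_cast
      linear_combination 16 * hee + hdd + hzz + 8 * hde - 8 * hze - 2 * hdv
    have h' : ∑ χ ∈ B, 16 * (r χ * r χ) = 80 := by exact_mod_cast h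
    rw [← Finset.mul_sum] at h'
    omega
  have hrN : ∑ χ ∈ B, r χ * (N χ : ℤ) = 0 := by
    have h1 : ∑ χ ∈ B, (d χ : ℂ) * (N χ : ℂ) = 0 := by
      rw [← D.orth_one_root hI hs hsz]
      exact Finset.sum_congr rfl fun χ _ => by rw [hd, hN, map_intCast]; ring
    have h2 : ∑ χ ∈ B, (v χ : ℂ) * (N χ : ℂ) = 0 := by
      rw [← D.orth_one_zx hI 0]
      exact Finset.sum_congr rfl fun χ _ => by rw [pow_zero, mul_one, hv, hN, map_intCast]; ring
    have h3 : ∑ χ ∈ B, (e χ : ℂ) * (N χ : ℂ) = 0 := by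
      have h : ∑ i : Fin 5, ∑ χ ∈ B, (χ : G → ℂ) 1 * conj ((χ : G → ℂ) (z * x ^ (i : ℕ))) = 0 :=
        Finset.sum_eq_zero fun i _ => D.orth_one_zx hI _
      rw [Finset.sum_comm, Finset.sum_congr rfl fun χ _ => (Finset.mul_sum _ _ _).symm] at h
      simp only [← map_sum, hN] at h
      rw [Finset.sum_congr rfl fun χ hχ => congrArg (fun b => (N χ : ℂ) * conj b) (he hχ)] at h
      simp only [map_mul, map_ofNat, map_intCast] at h
      rw [← mul_right_inj' (show (5 : ℂ) ≠ 0 by norm_num), Finset.mul_sum,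
        Finset.sum_congr rfl fun χ _ => show 5 * ((e χ : ℂ) * (N χ : ℂ)) = (N χ : ℂ) * (5 * (e χ : ℂ)) by ring, h]
      norm_num
    have h : ((∑ χ ∈ B, 4 * (r χ * (N χ : ℤ)) : ℤ) : ℂ) = ((0 : ℤ) : ℂ) := by
      rw [Finset.sum_congr rfl fun χ _ => show 4 * (r χ * (N χ : ℤ)) =
        4 * (e χ * (N χ : ℤ)) + d χ * (N χ : ℤ) - v χ * (N χ : ℤ) by
          linear_combination (-(N χ : ℤ)) * hr χ]
      simp only [Finset.sum_add_distrib, Finset.sum_sub_distrib, ← Finset.mul_sum]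
      push_cast
      linear_combination 4 * h3 + h1 - h2
    have h' : ∑ χ ∈ B, 4 * (r χ * (N χ : ℤ)) = 0 := by exact_mod_cast h
    rw [← Finset.mul_sum] at h'
    omega
  -- the trivial character
  have ht : trivialIrr G ∈ B := by
    simp only [hB, blk, Finset.mem_filter, Finset.mem_univ, true_and]
    exact trivial_mem_principalBlock hI
  have hv1 : v (trivialIrr G) = 1 := by
    have : ((trivialIrr G : IrrCharacter G) : G → ℂ) z = 1 := rfl
    rw [hv] at this; exact_mod_cast this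
  have hd1 : d (trivialIrr G) = 1 := by
    have : ((trivialIrr G : IrrCharacter G) : G → ℂ) s = 1 := rfl
    rw [hd] at this; exact_mod_cast this
  have he1 : e (trivialIrr G) = 1 := by
    have h := he ht
    rw [show (fun i : Fin 5 => ((trivialIrr G : IrrCharacter G) : G → ℂ) (z * x ^ (i : ℕ))) = fun _ => 1 from rfl] at h
    have h' : ((1 : ℤ) : ℂ) = (e (trivialIrr G) : ℂ) := by
      rw [← mul_right_inj' (show (5 : ℂ) ≠ 0 by norm_num), ← h]
      simp
    exact_mod_cast h'.symm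
  have hN1 : N (trivialIrr G) = 1 := by
    have h := hN (trivialIrr G)
    rw [show ((trivialIrr G : IrrCharacter G) : G → ℂ) 1 = 1 from rfl] at h
    exact_mod_cast h.symm
  have hr1 : r (trivialIrr G) = 1 := by have := hr (trivialIrr G); omega
  set B' := B.erase (trivialIrr G)
  have hB' : ∀ χ ∈ B', 320 ≤ N χ ∨ (2 ≤ N χ ∧
      ∃ F : Finset (IrrCharacter G), 4 ≤ F.card ∧ ∀ η ∈ F, ∃ σ, PrinCol.galIrr σ χ = η) := fun χ hχ =>
    hdeg χ (hmemB _ (Finset.mem_of_mem_erase hχ)) (Finset.ne_of_mem_erase hχ)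
  rw [← Finset.add_sum_erase B (fun χ => r χ * r χ) ht, hr1] at hrr
  rw [← Finset.add_sum_erase B (fun χ => r χ * (N χ : ℤ)) ht, hr1, hN1] at hrN
  rw [show B.erase (trivialIrr G) = B' from rfl] at hrr hrN
  have hsmall : ∀ χ ∈ B', |r χ| ≤ 1 := by
    by_contra hbad
    push Not at hbad
    obtain ⟨χ, hχ, h2⟩ := hbad
    have h4 : 4 ≤ r χ * r χ := by
      rw [← abs_mul_abs_self]
      nlinarith
    have hrest : ∀ η ∈ B'.erase χ, r η = 0 := by
      have hs0 : ∑ η ∈ B'.erase χ, r η * r η = 4 - r χ * r χ := by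
        have := Finset.add_sum_erase B' (fun η => r η * r η) hχ
        have e : ∑ η ∈ B', r η * r η = 4 := by
          omega
        rw [e] at this
        omega
      have hz0 : ∑ η ∈ B'.erase χ, r η * r η = 0 :=
        le_antisymm (by omega) (Finset.sum_nonneg fun η _ => mul_self_nonneg _)
      exact fun η hη => mul_self_eq_zero.1 ((Finset.sum_eq_zero_iff_of_nonneg fun η _ => mul_self_nonneg _).1 hz0 η hη)
    have h5 : ∑ η ∈ B', r η * (N η : ℤ) = r χ * (N χ : ℤ) := by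
      rw [← Finset.add_sum_erase B' _ hχ, Finset.sum_eq_zero fun η hη => by rw [hrest η hη, zero_mul], add_zero]
    have h6 : (N χ : ℤ) ∣ 1 := ⟨-r χ, by
      rw [h5] at hrN
      push_cast at hrN
      linarith⟩
    have : 2 ≤ N χ := (hB' χ hχ).elim (le_trans (by norm_num)) And.left
    have h7 := Int.le_of_dvd one_pos h6
    omega
  have hBdeg : ∀ χ ∈ B', r χ ≠ 0 → 320 ≤ N χ := by
    intro χ hχ hrχ
    refine (hB' χ hχ).resolve_right fun ⟨_, F, hF, hconj⟩ => ?_
    have hgal : ∀ η ∈ F, η ∈ B' ∧ r η = r χ ∧ N η = N χ := by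
      intro η hη
      obtain ⟨σ, rfl⟩ := hconj η hη
      have hχB := Finset.mem_of_mem_erase hχ
      have hηB : PrinCol.galIrr σ χ ∈ B := by
        have := PrinCol.galIrr_mem hI σ (hmemB _ hχB)
        simpa [hB, blk] using this
      have happ : ∀ g : G, (PrinCol.galIrr σ χ : G → ℂ) g = σ ((χ : G → ℂ) g) := fun _ => rfl
      refine ⟨Finset.mem_erase.2 ⟨fun e1 => Finset.ne_of_mem_erase hχ (Subtype.ext (funext fun g => σ.injective ?_)),
        hηB⟩, ?_, ?_⟩
      · rw [← happ, e1]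
        show (1 : ℂ) = σ 1
        rw [map_one]
      · have h1 : v (PrinCol.galIrr σ χ) = v χ := by
          have := happ z; rw [hv, hv, map_intCast] at this; exact_mod_cast this
        have h2 : d (PrinCol.galIrr σ χ) = d χ := by
          have := happ s; rw [hd, hd, map_intCast] at this; exact_mod_cast this
        have h3 : e (PrinCol.galIrr σ χ) = e χ := by
          have := he hηB
          rw [Finset.sum_congr rfl fun i _ => happ _, ← map_sum, he hχB, map_mul, map_ofNat, map_intCast] at this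
          exact_mod_cast (mul_left_cancel₀ (by norm_num : (5 : ℂ) ≠ 0) this).symm
        have := hr (PrinCol.galIrr σ χ); have := hr χ
        omega
      · have := happ 1; rw [hN, hN, map_natCast] at this; exact_mod_cast this
    have hsub : F ⊆ B' := fun η hη => (hgal η hη).1
    have h4 : 4 ≤ B'.card := hF.trans (Finset.card_le_card hsub)
    have hr2 : r χ * r χ = 1 := by
      have h1 := abs_le.1 (hsmall χ hχ)
      rcases (by omega : r χ = 1 ∨ r χ = -1) with h | h <;> rw [h] <;> norm_num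
    have hF4 : ∑ η ∈ F, r η * r η = F.card := by
      rw [Finset.sum_congr rfl fun η hη => by rw [(hgal η hη).2.1, hr2], Finset.sum_const, nsmul_eq_mul, mul_one]
    have hrest := Finset.sum_sdiff hsub (f := fun η => r η * r η)
    have hnn : 0 ≤ ∑ η ∈ B' \ F, r η * r η := Finset.sum_nonneg fun η _ => mul_self_nonneg _
    have hz0 : ∑ η ∈ B' \ F, r η * r η = 0 := by
      have : ∑ η ∈ B', r η * r η = 4 := by omega
      omega
    have h0 : ∀ η ∈ B' \ F, r η = 0 := fun η hη =>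
      mul_self_eq_zero.1 ((Finset.sum_eq_zero_iff_of_nonneg fun η _ => mul_self_nonneg _).1 hz0 η hη)
    have h5 : ∑ η ∈ B', r η * (N η : ℤ) = (F.card : ℤ) * (r χ * (N χ : ℤ)) := by
      rw [← Finset.sum_sdiff hsub, Finset.sum_eq_zero fun η hη => by rw [h0 η hη, zero_mul], zero_add,
        Finset.sum_congr rfl fun η hη => by rw [(hgal η hη).2.1, (hgal η hη).2.2], Finset.sum_const, nsmul_eq_mul]
    have h6 : (F.card : ℤ) ∣ 1 := ⟨-(r χ * (N χ : ℤ)), by
      rw [h5] at hrN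
      push_cast at hrN
      linarith⟩
    have := Int.le_of_dvd one_pos h6
    omega
  -- the structure constants
  set w : IrrCharacter G → ℝ := fun χ => (v χ : ℝ) ^ 2 / (N χ : ℝ)
  have hκ : 0 ≤ ∑ χ ∈ B, w χ * (v χ : ℝ) := by
    have h := D.quad_nonneg hI
    rw [← hB, Finset.sum_congr rfl fun (χ : IrrCharacter G) _ => show (χ : G → ℂ) z ^ 2 / (χ : G → ℂ) 1 * (χ : G → ℂ) z =
      ((w χ * (v χ : ℝ) : ℝ) : ℂ) by simp only [w, hv, hN]; push_cast; rfl, ← Complex.ofReal_sum] at h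
    exact_mod_cast h
  have hd0 : ∑ χ ∈ B, w χ * (d χ : ℝ) = 0 := by
    have h := D.quad_root hI hs hsz
    rw [← hB, Finset.sum_congr rfl fun (χ : IrrCharacter G) _ => show (χ : G → ℂ) z ^ 2 / (χ : G → ℂ) 1 * (χ : G → ℂ) s =
      ((w χ * (d χ : ℝ) : ℝ) : ℂ) by simp only [w, hv, hd, hN]; push_cast; rfl, ← Complex.ofReal_sum] at h
    exact_mod_cast h
  have he0 : ∑ χ ∈ B, w χ * (5 * (e χ : ℝ)) = ∑ χ ∈ B, w χ * (v χ : ℝ) := by
    have h : ∑ i : Fin 5, ∑ χ ∈ B, (χ : G → ℂ) z ^ 2 / (χ : G → ℂ) 1 * (χ : G → ℂ) (z * x ^ (i : ℕ)) =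
        ∑ χ ∈ B, (χ : G → ℂ) z ^ 2 / (χ : G → ℂ) 1 * (χ : G → ℂ) z := by
      rw [Fin.sum_univ_five]
      simp only [Fin.val_zero, Fin.val_one, Fin.val_two, show ((3 : Fin 5) : ℕ) = 3 from rfl,
        show ((4 : Fin 5) : ℕ) = 4 from rfl, pow_zero, mul_one]
      rw [hB, D.quad_x hI (i := 1) (by norm_num), D.quad_x hI (i := 2) (by norm_num),
        D.quad_x hI (i := 3) (by norm_num), D.quad_x hI (i := 4) (by norm_num)]
      simp only [add_zero]
    rw [Finset.sum_comm] at h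
    simp only [← Finset.mul_sum, hv, hN] at h
    rw [Finset.sum_congr rfl fun χ hχ => congrArg ((v χ : ℂ) ^ 2 / (N χ : ℂ) * ·) (he hχ)] at h
    have h' : ((∑ χ ∈ B, w χ * (5 * (e χ : ℝ)) : ℝ) : ℂ) = ((∑ χ ∈ B, w χ * (v χ : ℝ) : ℝ) : ℂ) := by
      simp only [w]
      push_cast
      exact h
    exact_mod_cast h'
  have hneg : ∑ χ ∈ B, w χ * (r χ : ℝ) ≤ 0 := by
    have e0 : ∀ χ, w χ * (r χ : ℝ) = (1 / 5) * (w χ * (5 * (e χ : ℝ))) + (1 / 4) * (w χ * (d χ : ℝ)) -
        (1 / 4) * (w χ * (v χ : ℝ)) := fun χ => by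
      have := hr χ
      have h' : (4 : ℝ) * e χ + d χ - v χ = 4 * r χ := by exact_mod_cast this
      linear_combination (-(w χ) / 4) * h'
    rw [Finset.sum_congr rfl fun χ _ => e0 χ, Finset.sum_sub_distrib, Finset.sum_add_distrib,
      ← Finset.mul_sum, ← Finset.mul_sum, ← Finset.mul_sum, he0, hd0]
    linarith
  have hvv : ∑ χ ∈ B', (v χ : ℝ) ^ 2 = 319 := by
    have h : ((∑ χ ∈ B, v χ * v χ : ℤ) : ℂ) = ((320 : ℤ) : ℂ) := by push_cast; rw [hzz]
    have h' : ∑ χ ∈ B, v χ * v χ = 320 := by exact_mod_cast h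
    rw [← Finset.add_sum_erase B (fun χ => v χ * v χ) ht, hv1] at h'
    rw [show B.erase (trivialIrr G) = B' from rfl] at h'
    have h'' : ((∑ χ ∈ B', v χ * v χ : ℤ) : ℝ) = ((319 : ℤ) : ℝ) := by
      congr 1
      omega
    push_cast at h''
    simpa [pow_two] using h''
  rw [← Finset.add_sum_erase B (fun χ => w χ * (r χ : ℝ)) ht,
    show w (trivialIrr G) = 1 by simp [w, hv1, hN1], hr1] at hneg
  have hlow : -(319 / 320 : ℝ) ≤ ∑ χ ∈ B', w χ * (r χ : ℝ) := by
    rw [← hvv, Finset.sum_div, ← Finset.sum_neg_distrib]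
    refine Finset.sum_le_sum fun χ hχ => ?_
    rcases eq_or_ne (r χ) 0 with hr0 | hr0
    · rw [hr0, Int.cast_zero, mul_zero, neg_nonpos]
      positivity
    have hN320 : (320 : ℝ) ≤ N χ := by exact_mod_cast hBdeg χ hχ hr0
    have hw : w χ ≤ (v χ : ℝ) ^ 2 / 320 :=
      div_le_div_of_nonneg_left (sq_nonneg _) (by norm_num) hN320
    have hw0 : 0 ≤ w χ := div_nonneg (sq_nonneg _) (Nat.cast_nonneg _)
    have hr' : (-1 : ℝ) ≤ r χ := by exact_mod_cast (abs_le.1 (hsmall χ hχ)).1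
    nlinarith
  rw [show B.erase (trivialIrr G) = B' from rfl] at hneg
  simp only [Int.cast_one, mul_one] at hneg hlow
  linarith

/-- The counting: not every non-trivial character of the principal block has degree at least 320. -/
theorem false_of_degree {I : Ideal AlgInt} (hI : IsPModular 2 I)
    (hdeg : ∀ χ ∈ principalBlock I G, χ ≠ trivialIrr G → 320 ≤ charDegree (χ : G → ℂ)) : False :=
  D.false_of_degree_or hI fun χ hχ hne => Or.inl (hdeg χ hχ hne)

end Data

end Cfsg.Agent.Transfer.UnitaryCore
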