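import Cfsg.Agent.Lib.Transfer.UnitaryCore.Local

/-!
# One class of elements of order four, one class of involutions in the Sylow subgroup
-/

set_option autoImplicit false
set_option linter.unusedSectionVars false

open scoped Pointwise

namespace Cfsg.Agent.Transfer.UnitaryCore

open Subgroup UnitaryFour

universe u

variable {G : Type u} [Group G] [Finite G]

namespace Data

variable {S : Sylow 2 G} {z x : G} {K M : Subgroup G} (D : Data S z x K M)
include D

theorem conj_cen {n v : G} (hn : n ∈ normalizer ((S : Subgroup G) : Set G)) (hv : v ∈ cen S) :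
    n * v * n⁻¹ ∈ cen S := Hyp.cen_normal hn hv

theorem isConj_cen {v : G} (hv : v ∈ cen S) (hv1 : v ≠ 1) : IsConj z v := by
  obtain ⟨n, -, hn⟩ := D.fused v hv hv1
  exact isConj_iff.2 ⟨n, hn⟩

theorem notMem_cen {w : G} (h : w * w = z) : w ∉ cen S := fun hc => D.hz1 (h ▸ D.cen_sq hc)

/-- The twenty square roots of `z` form one orbit of `⟨x⟩` on the cosets of the centre. -/
theorem roots :
    ∃ s ∈ (S : Subgroup G), s * s = z ∧ ∀ w ∈ (S : Subgroup G), w * w = z →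
      ∃ i : ℕ, ∃ c ∈ cen S, w = x ^ i * (c * s) * (x ^ i)⁻¹ := by
  classical
  cases nonempty_fintype G
  set A : Finset G := Finset.univ.filter (fun w : G => w ∈ (S : Subgroup G)) with hA
  set Z : Finset G := Finset.univ.filter (fun w : G => w ∈ cen S) with hZ
  set F : G → Finset G := fun v => A.filter (fun w => w * w = v) with hF
  have hmemF : ∀ v w, w ∈ F v ↔ w ∈ (S : Subgroup G) ∧ w * w = v := fun v w => by simp [hF, hA]
  have hA64 : A.card = 64 := by
    rw [hA, ← Fintype.card_subtype, ← Nat.card_eq_fintype_card]; exact D.card_S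
  have hZ4 : Z.card = 4 := by
    rw [hZ, ← Fintype.card_subtype, ← Nat.card_eq_fintype_card]; exact D.card_cen
  have hsplit : ∀ w ∈ A, w * w ∈ Z := fun w hw => by
    simp only [hA, hZ, Finset.mem_filter, Finset.mem_univ, true_and] at hw ⊢
    exact D.sq_mem hw
  have hF1 : F 1 = Z := by
    ext w
    rw [hmemF]
    simp only [hZ, Finset.mem_filter, Finset.mem_univ, true_and]
    exact ⟨fun h => D.mem_cen_of_sq h.1 h.2, fun h => ⟨cen_le h, D.cen_sq h⟩⟩
  have hone : (1 : G) ∈ Z := by simp [hZ, one_mem]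
  have hsum : ∑ v ∈ Z.erase 1, (F v).card = 60 := by
    have h1 := Finset.card_eq_sum_card_fiberwise (f := fun w : G => w * w) (s := A) (t := Z) hsplit
    rw [← Finset.add_sum_erase _ _ hone, hA64] at h1
    have h2 : (A.filter fun w => w * w = 1).card = 4 := by
      rw [show (A.filter fun w => w * w = 1) = F 1 from rfl, hF1, hZ4]
    rw [h2] at h1
    simp only [hF]
    omega
  have hsame : ∀ v ∈ Z.erase 1, (F v).card = (F z).card := by
    intro v hv
    simp only [hZ, Finset.mem_erase, Finset.mem_filter, Finset.mem_univ, true_and] at hv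
    obtain ⟨n, hn, rfl⟩ := D.fused v hv.2 hv.1
    refine (Finset.card_bij (fun w _ => n * w * n⁻¹) (fun w hw => ?_)
      (fun a _ b _ e => mul_left_cancel (mul_right_cancel e)) fun w hw => ⟨n⁻¹ * w * n, ?_, by group⟩).symm
    · rw [hmemF] at hw ⊢
      refine ⟨(mem_normalizer_iff.1 hn w).1 hw.1, ?_⟩
      rw [← hw.2]; group
    · rw [hmemF] at hw ⊢
      refine ⟨(mem_normalizer_iff''.1 hn w).1 hw.1, ?_⟩
      calc n⁻¹ * w * n * (n⁻¹ * w * n) = n⁻¹ * (w * w) * n := by group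
        _ = z := by rw [hw.2]; group
  rw [Finset.sum_congr rfl hsame, Finset.sum_const, Finset.card_erase_of_mem hone, hZ4,
    smul_eq_mul] at hsum
  have h20 : (F z).card = 20 := by omega
  obtain ⟨s, hs⟩ := Finset.card_pos.1 (show 0 < (F z).card by omega)
  obtain ⟨hsS, hsz⟩ := (hmemF _ _).1 hs
  refine ⟨s, hsS, hsz, fun w hw hwz => ?_⟩
  set f : Fin 5 × G → G := fun p => x ^ (p.1 : ℕ) * (p.2 * s) * (x ^ (p.1 : ℕ))⁻¹ with hf
  have hinj : ∀ p ∈ (Finset.univ : Finset (Fin 5)) ×ˢ Z, ∀ q ∈ (Finset.univ : Finset (Fin 5)) ×ˢ Z,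
      f p = f q → p = q := by
    rintro ⟨i, c⟩ hp ⟨j, d⟩ hq e
    simp only [Finset.mem_product, Finset.mem_univ, true_and, hZ, Finset.mem_filter] at hp hq
    simp only [hf] at e
    obtain ⟨k, hk⟩ := D.exists_order
    have hk5 : 5 ∣ 5 ^ (k + 1) := dvd_pow_self 5 (Nat.succ_ne_zero k)
    have hj5 : (j : ℕ) ≤ 5 ^ (k + 1) := le_trans (by omega) (Nat.le_of_dvd (pow_pos (by norm_num) _) hk5)
    have hn : x ^ (5 ^ (k + 1)) = 1 := by rw [← hk, pow_orderOf_eq_one]
    have hm : x ^ ((i : ℕ) + (5 ^ (k + 1) - (j : ℕ))) = (x ^ (j : ℕ))⁻¹ * x ^ (i : ℕ) := by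
      rw [eq_inv_mul_iff_mul_eq, ← pow_add,
        show (j : ℕ) + ((i : ℕ) + (5 ^ (k + 1) - (j : ℕ))) = (i : ℕ) + 5 ^ (k + 1) by omega, pow_add, hn, mul_one]
    have e2 : x ^ ((i : ℕ) + (5 ^ (k + 1) - (j : ℕ))) * (c * s) * (x ^ ((i : ℕ) + (5 ^ (k + 1) - (j : ℕ))))⁻¹ = d * s := by
      rw [hm]
      calc (x ^ (j : ℕ))⁻¹ * x ^ (i : ℕ) * (c * s) * ((x ^ (j : ℕ))⁻¹ * x ^ (i : ℕ))⁻¹
          = (x ^ (j : ℕ))⁻¹ * (x ^ (i : ℕ) * (c * s) * (x ^ (i : ℕ))⁻¹) * x ^ (j : ℕ) := by group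
        _ = d * s := by rw [e]; group
    set m := (i : ℕ) + (5 ^ (k + 1) - (j : ℕ)) with hmdef
    have e3 : x ^ m * s * (x ^ m)⁻¹ * s⁻¹ = c⁻¹ * d := by
      have h := D.x_pow_cen hp m
      calc x ^ m * s * (x ^ m)⁻¹ * s⁻¹ = c⁻¹ * ((c * x ^ m) * s * (x ^ m)⁻¹) * s⁻¹ := by group
        _ = c⁻¹ * (x ^ m * (c * s) * (x ^ m)⁻¹) * s⁻¹ := by rw [← h]; group
        _ = c⁻¹ * d := by rw [e2]; group
    have h5 : 5 ∣ m := by
      by_contra h
      exact D.notMem_cen hsz (D.pow_fpf h hsS (e3 ▸ mul_mem (inv_mem hp) hq))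
    have hij : i = j := Fin.ext (by obtain ⟨l, hl⟩ := h5; obtain ⟨l', hl'⟩ := hk5; omega)
    subst hij
    rw [show x ^ m = 1 by rw [hm, inv_mul_cancel], one_mul, inv_one, mul_one] at e2
    rw [mul_right_cancel e2]
  have himg : ((Finset.univ : Finset (Fin 5)) ×ˢ Z).image f = F z := by
    refine Finset.eq_of_subset_of_card_le (fun y hy => ?_) ?_
    · simp only [Finset.mem_image, Finset.mem_product, Finset.mem_univ, true_and, hZ, Finset.mem_filter] at hy
      obtain ⟨⟨i, c⟩, hc, rfl⟩ := hy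
      refine (hmemF _ _).2 ⟨(mem_normalizer_iff.1 (D.pow_norm _) _).1 (mul_mem (cen_le hc) hsS), ?_⟩
      simp only [hf]
      calc x ^ (i : ℕ) * (c * s) * (x ^ (i : ℕ))⁻¹ * (x ^ (i : ℕ) * (c * s) * (x ^ (i : ℕ))⁻¹)
          = x ^ (i : ℕ) * (c * (s * c) * s) * (x ^ (i : ℕ))⁻¹ := by group
        _ = x ^ (i : ℕ) * ((c * c) * (s * s)) * (x ^ (i : ℕ))⁻¹ := by rw [← comm_of_cen hc hsS]; group
        _ = z := by rw [D.cen_sq hc, one_mul, hsz, D.x_pow_cen D.hz, mul_inv_cancel_right]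
    · rw [Finset.card_image_of_injOn fun p hp q hq e => hinj p hp q hq e, Finset.card_product,
        Finset.card_univ, Fintype.card_fin, hZ4, h20]
  obtain ⟨⟨i, c⟩, hp, e⟩ := Finset.mem_image.1 (himg ▸ (hmemF z w).2 ⟨hw, hwz⟩)
  simp only [Finset.mem_product, Finset.mem_univ, true_and, hZ, Finset.mem_filter] at hp
  exact ⟨i, c, hp, e.symm⟩

theorem exists_root : ∃ s ∈ (S : Subgroup G), s * s = z := by
  obtain ⟨s, hs, hsz, -⟩ := D.roots
  exact ⟨s, hs, hsz⟩

theorem isConj_root {s w : G} (hs : s ∈ (S : Subgroup G)) (hsz : s * s = z) (hw : w ∈ (S : Subgroup G))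
    (hwz : w * w = z) : IsConj s w := by
  obtain ⟨s₀, hs₀, hs₀z, h⟩ := D.roots
  have key : ∀ y ∈ (S : Subgroup G), y * y = z → IsConj s₀ y := by
    intro y hy hyz
    obtain ⟨i, c, hc, rfl⟩ := h y hy hyz
    obtain ⟨t, -, ht⟩ := D.full hs₀ (D.notMem_cen hs₀z) hc
    exact (isConj_iff.2 ⟨t, ht⟩).trans (isConj_iff.2 ⟨x ^ i, rfl⟩)
  exact (key s hs hsz).symm.trans (key w hw hwz)

/-- All elements of `S` outside the centre are conjugate. -/
theorem isConj_noncen {s w : G} (hs : s ∈ (S : Subgroup G)) (hsz : s * s = z) (hw : w ∈ (S : Subgroup G))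
    (hwc : w ∉ cen S) : IsConj s w := by
  have hw1 : w * w ≠ 1 := fun e => hwc (D.mem_cen_of_sq hw e)
  obtain ⟨n, hn, hv⟩ := D.fused _ (D.sq_mem hw) hw1
  refine (D.isConj_root hs hsz ((mem_normalizer_iff''.1 hn w).1 hw) ?_).trans (isConj_iff.2 ⟨n, by group⟩)
  calc n⁻¹ * w * n * (n⁻¹ * w * n) = n⁻¹ * (w * w) * n := by group
    _ = z := by rw [← hv]; group

/-- The centraliser in `S` of a square root of `z` has order sixteen. -/
theorem card_cent_root {s : G} (hs : s ∈ (S : Subgroup G)) (hsz : s * s = z) :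
    Nat.card ↥((S : Subgroup G) ⊓ centralizer ({s} : Set G)) = 16 := by
  let f : ↥(S : Subgroup G) →* G :=
    { toFun := fun w => (w : G) * s * (w : G)⁻¹ * s⁻¹
      map_one' := by simp
      map_mul' := fun a b => by
        have hc := comm_of_cen (D.comm_mem b.2 hs) a.2
        set v := (b : G) * s * (b : G)⁻¹ * s⁻¹ with hv
        calc ((a * b : ↥(S : Subgroup G)) : G) * s * ((a * b : ↥(S : Subgroup G)) : G)⁻¹ * s⁻¹
            = ((a : G) * v) * s * (a : G)⁻¹ * s⁻¹ := by rw [Subgroup.coe_mul, hv]; group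
          _ = v * ((a : G) * s * (a : G)⁻¹ * s⁻¹) := by rw [← hc]; group
          _ = _ := comm_of_cen (D.comm_mem b.2 hs) (cen_le (D.comm_mem a.2 hs)) }
  have hrange : f.range = cen S := by
    refine le_antisymm (fun v ⟨w, hw⟩ => hw ▸ D.comm_mem w.2 hs) fun v hv => ?_
    obtain ⟨y, hy, e⟩ := D.full hs (D.notMem_cen hsz) hv
    exact ⟨⟨y, hy⟩, by show y * s * y⁻¹ * s⁻¹ = v; rw [e, mul_inv_cancel_right]⟩
  have h := f.ker.card_mul_index
  rw [Subgroup.index_ker, hrange, D.card_cen, D.card_S] at h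
  have hker : f.ker.map (S : Subgroup G).subtype = (S : Subgroup G) ⊓ centralizer ({s} : Set G) := by
    ext w
    simp only [Subgroup.mem_map, MonoidHom.mem_ker, mem_inf, mem_centralizer_singleton_iff]
    constructor
    · rintro ⟨a, ha, rfl⟩
      exact ⟨a.2, mul_inv_eq_iff_eq_mul.1 (mul_inv_eq_one.1 ha)⟩
    · rintro ⟨hw, e⟩
      exact ⟨⟨w, hw⟩, by show w * s * w⁻¹ * s⁻¹ = 1; rw [e]; group, rfl⟩
  rw [← hker, Subgroup.card_map_of_injective (S : Subgroup G).subtype_injective]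
  omega

end Data

end Cfsg.Agent.Transfer.UnitaryCore
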