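import Cfsg.Agent.Lib.Transfer.UnitaryCore.Data

/-!
# Local facts from the data: `C(z) = K (S ⟨x⟩)` with `K ∩ S ⟨x⟩ = 1`
-/

set_option autoImplicit false
set_option linter.unusedSectionVars false

open scoped Pointwise

namespace Cfsg.Agent.Transfer.UnitaryCore

open Subgroup UnitaryFour

universe u

variable {G : Type u} [Group G] [Finite G]

namespace Data

variable {S : Sylow 2 G} {z x : G} {K M : Subgroup G} (D : Data S z x K M)
include D

theorem cen_sq {v : G} (hv : v ∈ cen S) : v * v = 1 :=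
  congrArg Subtype.val (D.shape.exp _ ((mem_cen (cen_le hv)).1 hv))

theorem mem_cen_of_sq {w : G} (hw : w ∈ (S : Subgroup G)) (h1 : w * w = 1) : w ∈ cen S :=
  (mem_cen hw).2 (D.shape.inv _ (Subtype.ext h1))

theorem sq_mem {w : G} (hw : w ∈ (S : Subgroup G)) : w * w ∈ cen S :=
  ⟨_, D.shape.sq ⟨w, hw⟩, rfl⟩

theorem comm_mem {a b : G} (ha : a ∈ (S : Subgroup G)) (hb : b ∈ (S : Subgroup G)) :
    a * b * a⁻¹ * b⁻¹ ∈ cen S :=
  ⟨_, D.shape.comm ⟨a, ha⟩ ⟨b, hb⟩, rfl⟩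

theorem full {w v : G} (hw : w ∈ (S : Subgroup G)) (hwc : w ∉ cen S) (hv : v ∈ cen S) :
    ∃ y ∈ (S : Subgroup G), y * w * y⁻¹ = v * w := by
  obtain ⟨y, hy⟩ := D.shape.full ⟨w, hw⟩ (fun hh => hwc ((mem_cen hw).2 hh)) ⟨v, cen_le hv⟩
    ((mem_cen (cen_le hv)).1 hv)
  exact ⟨y, y.2, congrArg Subtype.val hy⟩

theorem card_S : Nat.card (S : Subgroup G) = 64 := D.shape.card

theorem card_cen : Nat.card (cen S) = 4 := by
  rw [cen, Subgroup.card_map_of_injective (S : Subgroup G).subtype_injective, D.shape.centre]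

theorem z_sq : z * z = 1 := D.cen_sq D.hz

theorem z_order : orderOf z = 2 := orderOf_eq_prime (by rw [pow_two, D.z_sq]) D.hz1

theorem z_mem : z ∈ (S : Subgroup G) := cen_le D.hz

theorem x_pow_core {i : ℕ} (hi : 5 ∣ i) : x ^ i ∈ K := by
  obtain ⟨j, rfl⟩ := hi
  rw [pow_mul]
  exact pow_mem D.x5 j

theorem odd_order (i : ℕ) : Odd (orderOf (x ^ i)) := by
  obtain ⟨k, hk⟩ := D.ox
  exact (Odd.pow (by decide : Odd 5)).of_dvd_nat ((orderOf_pow_dvd i).trans (dvd_of_eq hk))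

theorem x_pow_mem_S {i : ℕ} (h : x ^ i ∈ (S : Subgroup G)) : x ^ i = 1 := eq_one_of_odd h (D.odd_order i)

theorem exists_order : ∃ k : ℕ, orderOf x = 5 ^ (k + 1) := by
  obtain ⟨k, hk⟩ := D.ox
  rcases k with _ | k
  · exfalso
    rw [pow_zero, orderOf_eq_one_iff] at hk
    obtain ⟨w, hw, hwc⟩ : ∃ w ∈ (S : Subgroup G), w ∉ cen S := by
      by_contra hno
      push Not at hno
      have := card_le_of_le (show (S : Subgroup G) ≤ cen S from hno)
      rw [D.card_S, D.card_cen] at this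
      omega
    exact hwc (D.fpf w hw (by rw [hk]; simp))
  · exact ⟨k, hk⟩

/-- Congruent exponents modulo five when the powers agree. -/
theorem mod_five {i j : ℕ} (h : x ^ i = x ^ j) : i % 5 = j % 5 := by
  obtain ⟨k, hk⟩ := D.exists_order
  rw [pow_eq_pow_iff_modEq, hk] at h
  exact Nat.ModEq.of_dvd (dvd_pow_self 5 (Nat.succ_ne_zero k)) h

theorem x_cent : x ∈ centralizer ({z} : Set G) := mem_cent_of_comm (D.xcen z D.hz)

theorem S_le_cent : (S : Subgroup G) ≤ centralizer ({z} : Set G) :=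
  fun _ hs => mem_cent_of_comm (comm_of_cen D.hz hs).symm

theorem T_le : (S : Subgroup G) ⊔ zpowers x ≤ centralizer ({z} : Set G) :=
  sup_le D.S_le_cent (zpowers_le.2 D.x_cent)

theorem mem_T {t : G} (ht : t ∈ (S : Subgroup G) ⊔ zpowers x) :
    ∃ w ∈ (S : Subgroup G), ∃ i : ℕ, t = w * x ^ i := by
  have ht' : t ∈ ((S : Subgroup G) : Set G) * ((zpowers x : Subgroup G) : Set G) := by
    rw [← coe_mul_of_right_le_normalizer_left _ _ (zpowers_le.2 D.hx)]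
    exact ht
  obtain ⟨w, hw, y, hy, rfl⟩ := ht'
  obtain ⟨i, rfl⟩ := Submonoid.mem_powers_iff _ _ |>.1 (mem_powers_iff_mem_zpowers.2 hy)
  exact ⟨w, hw, i, rfl⟩

theorem pow_norm (i : ℕ) : x ^ i ∈ normalizer ((S : Subgroup G) : Set G) := pow_mem D.hx i

theorem T_norm {t : G} (ht : t ∈ (S : Subgroup G) ⊔ zpowers x) :
    t ∈ normalizer ((S : Subgroup G) : Set G) :=
  (sup_le le_normalizer (zpowers_le.2 D.hx) : (S : Subgroup G) ⊔ zpowers x ≤ _) ht

theorem conj_mem {t w : G} (ht : t ∈ (S : Subgroup G) ⊔ zpowers x) (hw : w ∈ (S : Subgroup G)) :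
    t * w * t⁻¹ ∈ (S : Subgroup G) :=
  (mem_normalizer_iff.1 (D.T_norm ht) w).1 hw

theorem x_pow_cen {v : G} (hv : v ∈ cen S) (i : ℕ) : x ^ i * v = v * x ^ i :=
  (show Commute x v from D.xcen v hv).pow_left i

/-- A power of `x` prime to five fixing a coset of the centre fixes the centre only. -/
theorem pow_fpf {i : ℕ} (hi : ¬ 5 ∣ i) {w : G} (hw : w ∈ (S : Subgroup G))
    (h : x ^ i * w * (x ^ i)⁻¹ * w⁻¹ ∈ cen S) : w ∈ cen S := by
  refine D.fpf w hw ?_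
  have key : ∀ n : ℕ, (x ^ i) ^ n * w * ((x ^ i) ^ n)⁻¹ * w⁻¹ ∈ cen S := by
    intro n
    induction n with
    | zero => simp
    | succ n ih =>
      set v := (x ^ i) ^ n * w * ((x ^ i) ^ n)⁻¹ * w⁻¹ with hv
      have e : (x ^ i) ^ (n + 1) * w * ((x ^ i) ^ (n + 1))⁻¹ * w⁻¹ =
          (x ^ i * v * (x ^ i)⁻¹) * (x ^ i * w * (x ^ i)⁻¹ * w⁻¹) := by
        rw [hv, pow_succ']; group
      rw [e, D.x_pow_cen ih, mul_inv_cancel_right]
      exact mul_mem ih h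
  have hc : Nat.Coprime i (orderOf x) := by
    obtain ⟨k, hk⟩ := D.ox
    rw [hk]
    exact Nat.Coprime.pow_right k ((Nat.prime_five.coprime_iff_not_dvd).2 hi).symm
  obtain ⟨n, hn⟩ := exists_pow_eq_self_of_coprime hc
  have := key n
  rwa [hn] at this

/-- An element of `S x^i` centralising a non-central element of `S` modulo the centre lies in `S`. -/
theorem five_dvd {w : G} (hw : w ∈ (S : Subgroup G)) (hwc : w ∉ cen S) {s : G}
    (hs : s ∈ (S : Subgroup G)) {i : ℕ} (e : s * x ^ i * w * (s * x ^ i)⁻¹ * w⁻¹ ∈ cen S) : 5 ∣ i := by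
  by_contra hi
  refine hwc (D.pow_fpf hi hw ?_)
  set v := x ^ i * w * (x ^ i)⁻¹ with hv
  have hvS : v ∈ (S : Subgroup G) := (mem_normalizer_iff.1 (D.pow_norm i) w).1 hw
  have h1 := D.comm_mem hs hvS
  have h2 : v * w⁻¹ = (s * v * s⁻¹ * v⁻¹)⁻¹ * (s * x ^ i * w * (s * x ^ i)⁻¹ * w⁻¹) := by
    rw [hv]; group
  rw [h2]
  exact mul_mem (inv_mem h1) e

theorem exists_noncen : ∃ w ∈ (S : Subgroup G), w ∉ cen S := by
  by_contra hno
  push Not at hno
  have := card_le_of_le (show (S : Subgroup G) ≤ cen S from hno)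
  rw [D.card_S, D.card_cen] at this
  omega

theorem core_inf_S {k : G} (hk : k ∈ K) (hks : k ∈ (S : Subgroup G)) : k = 1 :=
  eq_one_of_odd hks (D.K_odd.of_dvd_nat (K.orderOf_dvd_natCard hk))

theorem core_comm {k : G} (hk : k ∈ K) (ht : k ∈ (S : Subgroup G) ⊔ zpowers x) {w : G}
    (hw : w ∈ (S : Subgroup G)) : k * w = w * k := by
  have h1 : k * w * k⁻¹ * w⁻¹ ∈ (S : Subgroup G) := mul_mem (D.conj_mem ht hw) (inv_mem hw)
  have h2 : k * w * k⁻¹ * w⁻¹ ∈ K := by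
    rw [show k * w * k⁻¹ * w⁻¹ = k * (w * k⁻¹ * w⁻¹) by group]
    exact mul_mem hk (D.K_norm w (D.S_le_cent hw) _ (inv_mem hk))
  exact mul_inv_eq_iff_eq_mul.1 (mul_inv_eq_one.1 (D.core_inf_S h2 h1))

/-- The core meets `S ⟨x⟩` in the powers of `x ^ 5`. -/
theorem core_T {k : G} (hk : k ∈ K) (ht : k ∈ (S : Subgroup G) ⊔ zpowers x) :
    ∃ i : ℕ, 5 ∣ i ∧ k = x ^ i := by
  obtain ⟨s, hs, i, e⟩ := D.mem_T ht
  obtain ⟨w, hw, hwc⟩ := D.exists_noncen
  have h5 := D.five_dvd hw hwc hs (i := i) (by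
    rw [← e, D.core_comm hk ht hw, mul_inv_cancel_right, mul_inv_cancel]; exact one_mem _)
  refine ⟨i, h5, ?_⟩
  have hs1 : s ∈ K := by
    rw [show s = k * (x ^ i)⁻¹ by rw [e, mul_inv_cancel_right]]
    exact mul_mem hk (inv_mem (D.x_pow_core h5))
  rw [e, D.core_inf_S hs1 hs, one_mul]

theorem T_pow (i : ℕ) : x ^ i ∈ (S : Subgroup G) ⊔ zpowers x := mem_sup_right (pow_mem (mem_zpowers x) i)

theorem not_mem_core {i : ℕ} (h : x ^ i ∈ K) : 5 ∣ i := by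
  obtain ⟨j, hj, e⟩ := D.core_T h (D.T_pow i)
  have := D.mod_five e
  omega

/-- Two powers of `x` conjugate modulo `K` in `C(z)` are congruent modulo five. -/
theorem pow_unique {c : G} (hc : c ∈ centralizer ({z} : Set G)) {j k : ℕ}
    (h : c * x ^ j * c⁻¹ * (x ^ k)⁻¹ ∈ K) : j % 5 = k % 5 := by
  obtain ⟨k₀, hk₀, t, ht, rfl⟩ := D.cover c hc
  have hxC : x ^ k ∈ centralizer ({z} : Set G) := pow_mem D.x_cent k
  have h1 : t * x ^ j * t⁻¹ * (x ^ k)⁻¹ ∈ K := by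
    rw [show t * x ^ j * t⁻¹ * (x ^ k)⁻¹ =
      k₀⁻¹ * (k₀ * t * x ^ j * (k₀ * t)⁻¹ * (x ^ k)⁻¹) * (x ^ k * k₀ * (x ^ k)⁻¹) by group]
    exact mul_mem (mul_mem (inv_mem hk₀) h) (D.K_norm _ hxC _ hk₀)
  obtain ⟨l, hl, h2⟩ := D.core_T h1 (mul_mem (mul_mem (mul_mem ht (D.T_pow j)) (inv_mem ht)) (inv_mem (D.T_pow k)))
  obtain ⟨s, hs, i, rfl⟩ := D.mem_T ht
  rw [mul_inv_eq_iff_eq_mul, ← pow_add, show s * x ^ i * x ^ j * (s * x ^ i)⁻¹ = s * x ^ j * s⁻¹ by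
    rw [mul_assoc s, ← pow_add, add_comm, pow_add]; group] at h2
  have h3 : x ^ (l + k) * (x ^ j)⁻¹ ∈ (S : Subgroup G) := by
    rw [← h2, mul_assoc, mul_assoc, ← mul_assoc (x ^ j)]
    exact mul_mem hs ((mem_normalizer_iff.1 (D.pow_norm j) s⁻¹).1 (inv_mem hs))
  have h4 : Odd (orderOf (x ^ (l + k) * (x ^ j)⁻¹)) := (D.odd_order 1).of_dvd_nat (by
    rw [pow_one]
    exact orderOf_dvd_of_mem_zpowers (mul_mem (pow_mem (mem_zpowers x) _) (inv_mem (pow_mem (mem_zpowers x) j))))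
  have h5 := D.mod_five (mul_inv_eq_one.1 (eq_one_of_odd h3 h4))
  omega

/-- An element of the cover centralising `S` modulo `K` is, up to `K`, in `S`. -/
theorem cent_mod {c : G} (hc : c ∈ centralizer ({z} : Set G))
    (h : ∀ w ∈ (S : Subgroup G), c * w * c⁻¹ * w⁻¹ ∈ K) :
    ∃ k ∈ K, ∃ w ∈ (S : Subgroup G), c = k * w := by
  obtain ⟨k₀, hk₀, t, ht, rfl⟩ := D.cover c hc
  obtain ⟨s, hs, i, e⟩ := D.mem_T ht
  obtain ⟨w, hw, hwc⟩ := D.exists_noncen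
  have h1 : t * w * t⁻¹ * w⁻¹ ∈ K := by
    rw [show t * w * t⁻¹ * w⁻¹ = k₀⁻¹ * (k₀ * t * w * (k₀ * t)⁻¹ * w⁻¹) * (w * k₀ * w⁻¹) by group]
    exact mul_mem (mul_mem (inv_mem hk₀) (h w hw)) (D.K_norm w (D.S_le_cent hw) _ hk₀)
  have h2 := D.core_inf_S h1 (mul_mem (D.conj_mem ht hw) (inv_mem hw))
  have h5 := D.five_dvd hw hwc hs (i := i) (by rw [← e, h2]; exact one_mem _)
  exact ⟨k₀ * (s * x ^ i * s⁻¹), mul_mem hk₀ (D.K_norm s (D.S_le_cent hs) _ (D.x_pow_core h5)), s, hs, by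
    rw [e]; group⟩

/-- The centraliser of a non-central element of `S` with square `z`, up to `K`. -/
theorem cent_elt {s c : G} (hs : s ∈ (S : Subgroup G)) (hsz : s * s = z) (hc : c * s = s * c) :
    ∃ k ∈ K, k * s = s * k ∧ ∃ w ∈ (S : Subgroup G), w * s = s * w ∧ c = k * w := by
  have hsc : s ∉ cen S := fun h => D.hz1 (hsz ▸ D.cen_sq h)
  have hcz : c ∈ centralizer ({z} : Set G) := by
    refine mem_cent_of_comm ?_
    rw [← hsz]
    exact ((show Commute c s from hc).mul_right hc).eq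
  obtain ⟨k, hk, t, ht, rfl⟩ := D.cover c hcz
  have h1 : t * s * t⁻¹ * s⁻¹ ∈ K := by
    have : k * t * s * (k * t)⁻¹ * s⁻¹ = 1 := by rw [hc]; group
    rw [show t * s * t⁻¹ * s⁻¹ = k⁻¹ * (k * t * s * (k * t)⁻¹ * s⁻¹) * (s * k * s⁻¹) by group, this,
      mul_one]
    exact mul_mem (inv_mem hk) (D.K_norm s (D.S_le_cent hs) _ hk)
  have h2 := D.core_inf_S h1 (mul_mem (D.conj_mem ht hs) (inv_mem hs))
  obtain ⟨w, hw, i, rfl⟩ := D.mem_T ht
  have h5 := D.five_dvd hs hsc hw (i := i) (by rw [h2]; exact one_mem _)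
  have hxi := D.x_pow_core h5
  have hxs := D.core_comm hxi (D.T_pow i) hs
  have hws : w * s = s * w := by
    have h3 : w * x ^ i * s * (w * x ^ i)⁻¹ = w * s * w⁻¹ := by
      rw [show w * x ^ i * s = w * (x ^ i * s) by group, hxs]; group
    exact mul_inv_eq_iff_eq_mul.1 (h3 ▸ mul_inv_eq_one.1 h2)
  refine ⟨k * (w * x ^ i * w⁻¹), mul_mem hk (D.K_norm w (D.S_le_cent hw) _ hxi), ?_, w, hw, hws, by group⟩
  have h4 : k * (w * x ^ i * w⁻¹) * w * s = s * (k * (w * x ^ i * w⁻¹) * w) := by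
    rw [show k * (w * x ^ i * w⁻¹) * w = k * (w * x ^ i) by group]
    exact hc
  calc k * (w * x ^ i * w⁻¹) * s = k * (w * x ^ i * w⁻¹) * (s * w * w⁻¹) := by rw [mul_inv_cancel_right]
    _ = k * (w * x ^ i * w⁻¹) * (w * s * w⁻¹) := by rw [hws]
    _ = k * (w * x ^ i * w⁻¹) * w * s * w⁻¹ := by group
    _ = s * (k * (w * x ^ i * w⁻¹) * w) * w⁻¹ := by rw [h4]
    _ = s * (k * (w * x ^ i * w⁻¹)) := by group

/-- No involution inverts a non-central element of `S` with square `z`. -/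
theorem not_inverted {s T : G} (hs : s ∈ (S : Subgroup G)) (hsz : s * s = z) (hT : T * T = 1) :
    T * s * T⁻¹ ≠ s⁻¹ := by
  intro e
  have hcz : T * z * T⁻¹ = z := by
    rw [← hsz, show T * (s * s) * T⁻¹ = (T * s * T⁻¹) * (T * s * T⁻¹) by group, e,
      ← mul_inv_rev, hsz, inv_eq_of_mul_eq_one_right D.z_sq]
  obtain ⟨k, hk, t, ht, rfl⟩ := D.cover T (mem_cent_of_comm (mul_inv_eq_iff_eq_mul.1 hcz))
  have hkt : k * (t * k * t⁻¹) ∈ K := mul_mem hk (D.K_norm t (D.T_le ht) k hk)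
  obtain ⟨l, hl, ht2⟩ := D.core_T (k := t * t) (by
    rw [show t * t = (k * (t * k * t⁻¹))⁻¹ * (k * t * (k * t)) by group, hT, mul_one]
    exact inv_mem hkt) (mul_mem ht ht)
  obtain ⟨w, hw, i, rfl⟩ := D.mem_T ht
  have h5 : 5 ∣ i := by
    have h1 : x ^ (i + i) * (x ^ l)⁻¹ ∈ (S : Subgroup G) := by
      rw [← ht2, pow_add, show x ^ i * x ^ i * (w * x ^ i * (w * x ^ i))⁻¹ = (x ^ i * w * (x ^ i)⁻¹)⁻¹ * w⁻¹ by group]
      exact mul_mem (inv_mem ((mem_normalizer_iff.1 (D.pow_norm i) w).1 hw)) (inv_mem hw)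
    have h2 := D.mod_five (mul_inv_eq_one.1 (eq_one_of_odd h1 ((D.odd_order 1).of_dvd_nat (by
      rw [pow_one]
      exact orderOf_dvd_of_mem_zpowers (mul_mem (pow_mem (mem_zpowers x) _) (inv_mem (pow_mem (mem_zpowers x) l)))))))
    omega
  set k' := k * (w * x ^ i * w⁻¹) with hk'
  have hk'K : k' ∈ K := mul_mem hk (D.K_norm w (D.S_le_cent hw) _ (D.x_pow_core h5))
  rw [show k * (w * x ^ i) = k' * w by rw [hk']; group] at e hT
  have hw2 : w * w = 1 := by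
    refine D.core_inf_S ?_ (mul_mem hw hw)
    rw [show w * w = (k' * (w * k' * w⁻¹))⁻¹ * (k' * w * (k' * w)) by group, hT, mul_one]
    exact inv_mem (mul_mem hk'K (D.K_norm w (D.S_le_cent hw) _ hk'K))
  have hws : w * s = s * w := comm_of_cen (D.mem_cen_of_sq hw hw2) hs
  have he : k' * s * k'⁻¹ = s⁻¹ := by
    rw [← e]
    calc k' * s * k'⁻¹ = k' * (s * w * w⁻¹) * k'⁻¹ := by group
      _ = k' * (w * s * w⁻¹) * k'⁻¹ := by rw [hws]
      _ = _ := by group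
  have hzK : z ∈ K := by
    rw [show z = (s * k' * s⁻¹) * k'⁻¹ by
      rw [← hsz]
      calc s * s = s * (k' * s * k'⁻¹)⁻¹ := by rw [he, inv_inv]
        _ = _ := by group]
    exact mul_mem (D.K_norm s (D.S_le_cent hs) k' hk'K) (inv_mem hk'K)
  exact D.hz1 (D.core_inf_S hzK D.z_mem)

end Data

end Cfsg.Agent.Transfer.UnitaryCore
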